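import Cfsg.Agent.Lib.FusionEssential.PClosed
import Cfsg.Agent.Lib.PGroupTheory.RegularExtra

/-!
# Tools for rank two resistance

Facts on regular `p`-groups and on automisers of essential subgroups.
-/

set_option autoImplicit false
set_option linter.style.haveILetI false

namespace Cfsg.Agent.Lib.Resistant67

open Cfsg Cfsg.FusionSystem Cfsg.Agent.Lib Cfsg.Agent.Lib.FS Cfsg.Agent.Lib.PGroupTheory
open scoped commutatorElement

section Group

variable {G : Type*} [Group G] {p : ℕ}

/-- If `a ^ p` commutes with `b` then `⁅a, b⁆ ^ p = 1` in a regular group. -/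
theorem commutatorElement_pow_eq_one [Finite G] [Fact p.Prime] (hG : IsPGroup p G) (hR : RegularAt p 1 G) {a b : G}
    (h : Commute (a ^ p) b) : ⁅a, b⁆ ^ p = 1 := by
  have e : a ^ p ^ 1 = (b * a * b⁻¹) ^ p ^ 1 := by
    rw [pow_one, conj_pow, ← h.eq, mul_inv_cancel_right]
  have h1 := (pow_eq_pow_iff hG hR).1 e
  rw [pow_one] at h1
  have h2 : (a * (a⁻¹ * (b * a * b⁻¹)) * a⁻¹) ^ p = 1 := by rw [conj_pow, h1]; group
  rw [show ⁅a, b⁆ = (a * (a⁻¹ * (b * a * b⁻¹)) * a⁻¹)⁻¹ by rw [commutatorElement_def]; group,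
    inv_pow, h2, inv_one]

/-- If `a ^ p` commutes with `b` then `(a b) ^ p = a ^ p * b ^ p` in a regular group. -/
theorem mul_pow_of_commute [Finite G] [Fact p.Prime] (hG : IsPGroup p G) (hR : RegularAt p 1 G) {a b : G}
    (h : Commute (a ^ p) b) : (a * b) ^ p = a ^ p * b ^ p := by
  obtain ⟨O, hOn, hO⟩ := exists_subgroup_of_regularAt hG hR
  obtain ⟨c, hc, hab⟩ := RegularAt.mul_pow_mem hR
    (X := Subgroup.closure ({a, b} : Set G)) (Subgroup.subset_closure (by simp) : a ∈ _)
    (Subgroup.subset_closure (by simp) : b ∈ _)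
  have hcom : ⁅Subgroup.closure ({a, b} : Set G), Subgroup.closure ({a, b} : Set G)⁆ ≤ O := by
    refine commutator_closure_pair_le ?_ ?_ ((hO _).2 (commutatorElement_pow_eq_one hG hR h)) <;>
      (rw [Subgroup.normalizer_eq_top]; trivial)
  rw [powerClosure_eq_bot fun x hx => by rw [pow_one]; exact (hO x).1 (hcom hx), Subgroup.mem_bot] at hc
  rw [hab, hc, mul_one]

/-- A subgroup containing the Frattini subgroup of a finite `p`-group is normal. -/
theorem normal_of_frattini_le [Finite G] [Fact p.Prime] (hG : IsPGroup p G) {M : Subgroup G}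
    (h : frattini G ≤ M) : M.Normal := by
  refine ⟨fun x hx g => ?_⟩
  rw [show g * x * g⁻¹ = ⁅g, x⁆ * x by rw [commutatorElement_def]; group]
  exact M.mul_mem (h (PGroups.commutatorElement_mem_frattini hG g x)) hx

theorem aut_mem_frattini (θ : MulAut G) {x : G} (hx : x ∈ frattini G) : θ x ∈ frattini G :=
  (SetLike.ext_iff.1 (frattini_characteristic.fixed θ) x).2 hx

/-- An automorphism of order prime to `p` acting trivially on `G / Φ(G)` is trivial. -/
theorem eq_one_of_trivial_frattini [Finite G] [Fact p.Prime] (hG : IsPGroup p G) {a : MulAut G}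
    (ha : (orderOf a).Coprime p) (h : ∀ x, x⁻¹ * a x ∈ frattini G) : a = 1 := by
  classical
  let mk : G → G ⧸ frattini G := QuotientGroup.mk
  have hmk : ∀ b ∈ Subgroup.zpowers a, ∀ x : G, mk (b x) = mk x := by
    let St : Subgroup (MulAut G) :=
      { carrier := {b | ∀ x : G, mk (b x) = mk x}
        one_mem' := fun x => rfl
        mul_mem' := fun {b c} hb hc x => by rw [MulAut.mul_apply, hb, hc]
        inv_mem' := fun {b} hb x => by
          conv_rhs => rw [← MulAut.apply_inv_self G b x]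
          rw [hb] }
    exact Subgroup.zpowers_le.2 (show a ∈ St from fun x =>
      (QuotientGroup.eq.2 (h x)).symm)
  let T := {s : G ⧸ frattini G → G // ∀ q, mk (s q) = q}
  letI : MulAction (Subgroup.zpowers a) T :=
    { smul := fun b s => ⟨fun q => (b : MulAut G) (s.1 q), fun q => (hmk b b.2 _).trans (s.2 q)⟩
      one_smul := fun s => rfl
      mul_smul := fun b c s => rfl }
  have hfree : ∀ s : T, MulAction.stabilizer (Subgroup.zpowers a) s = ⊥ := by
    refine fun s => (Subgroup.eq_bot_iff_forall _).2 fun b hb => Subtype.ext ?_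
    have hfix : ∀ q, (b : MulAut G) (s.1 q) = s.1 q := fun q =>
      congrFun (congrArg Subtype.val (MulAction.mem_stabilizer_iff.1 hb)) q
    have htop : Subgroup.closure (Set.range s.1) = ⊤ := by
      refine frattini_nongenerating (eq_top_iff.2 fun x _ => ?_)
      rw [show x = s.1 (mk x) * ((s.1 (mk x))⁻¹ * x) by group]
      exact Subgroup.mul_mem_sup (Subgroup.subset_closure ⟨_, rfl⟩) (QuotientGroup.eq.1 (s.2 _))
    have heq : (b : MulAut G).toMonoidHom = MonoidHom.id G :=
      MonoidHom.eq_of_eqOn_dense htop fun x ⟨q, hq⟩ => by subst hq; exact hfix q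
    exact MulEquiv.ext fun x => DFunLike.congr_fun heq x
  have e := Nat.card_congr (MulAction.selfEquivOrbitsQuotientProd hfree)
  rw [Nat.card_prod, Nat.card_zpowers] at e
  have hT : Nat.card T = Nat.card (G ⧸ frattini G → frattini G) := by
    refine Nat.card_congr
      { toFun := fun s q => ⟨q.out⁻¹ * s.1 q, QuotientGroup.eq.1 ?_⟩
        invFun := fun f => ⟨fun q => q.out * (f q : G), fun q => ?_⟩
        left_inv := fun s => Subtype.ext (funext fun q => mul_inv_cancel_left _ _)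
        right_inv := fun f => funext fun q => Subtype.ext (inv_mul_cancel_left _ _) }
    · exact (QuotientGroup.out_eq' q).trans (s.2 q).symm
    · show QuotientGroup.mk (q.out * (f q : G)) = q
      rw [QuotientGroup.mk_mul_of_mem _ (f q).2, QuotientGroup.out_eq']
  obtain ⟨k, hk⟩ := IsPGroup.iff_card.1 (hG.to_subgroup (frattini G))
  rw [Nat.card_fun, hk, ← pow_mul] at hT
  rw [hT] at e
  have hdvd : orderOf a ∣ p ^ (k * Nat.card (G ⧸ frattini G)) := Dvd.intro_left _ e.symm
  exact orderOf_eq_one_iff.1 (Nat.eq_one_of_dvd_coprimes (ha.pow_right _) dvd_rfl hdvd)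

/-- An automorphism of `p`-power order is trivial on an invariant section of order dividing `p`. -/
theorem step_trivial [Fact p.Prime] {θ : MulAut G} (hθ : ∃ n, θ ^ p ^ n = 1) (L : Subgroup G) [L.Normal]
    (hL : ∀ x ∈ L, θ x ∈ L) {u : G} (hu : u ^ p ∈ L) (hθu : θ u ∈ Subgroup.zpowers u ⊔ L) :
    ∀ x ∈ Subgroup.zpowers u ⊔ L, x⁻¹ * θ x ∈ L := by
  obtain ⟨n, hn⟩ := hθ
  have hmem : ∀ x, x ∈ Subgroup.zpowers u ⊔ L ↔ ∃ i : ℤ, ∃ l ∈ L, u ^ i * l = x := by
    intro x
    rw [Subgroup.mem_sup_of_normal_right]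
    constructor
    · rintro ⟨_, ⟨i, rfl⟩, l, hl, h⟩; exact ⟨i, l, hl, h⟩
    · rintro ⟨i, l, hl, h⟩; exact ⟨_, ⟨i, rfl⟩, l, hl, h⟩
  obtain ⟨i, l₀, hl₀, hi⟩ := (hmem _).1 hθu
  let π : G →* G ⧸ L := QuotientGroup.mk' L
  have hπ : ∀ x, π x = 1 ↔ x ∈ L := fun x => QuotientGroup.eq_one_iff x
  have hπu : π (θ u) = π u ^ i := by rw [← hi, map_mul, (hπ l₀).2 hl₀, mul_one, map_zpow]
  suffices hfix : π (θ u) = π u by
    intro x hx
    obtain ⟨j, l, hl, rfl⟩ := (hmem x).1 hx
    rw [← hπ]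
    simp only [map_mul, map_inv, map_zpow, (hπ l).2 hl, (hπ _).2 (hL l hl), mul_one, hfix,
      inv_mul_cancel]
  by_cases h1 : π u = 1
  · rw [hπu, h1, one_zpow]
  have hord : orderOf (π u) = p :=
    orderOf_eq_prime (by rw [← map_pow, hπ]; exact hu) h1
  have hiter : ∀ m : ℕ, π ((θ ^ m) u) = π u ^ (i ^ m) := by
    intro m
    induction m with
    | zero => simp
    | succ m ih =>
      have hm : u ^ (-(i ^ m)) * (θ ^ m) u ∈ L := by
        rw [← hπ, map_mul, map_zpow, ih, zpow_neg, inv_mul_cancel]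
      have h2 := (hπ _).2 (hL _ hm)
      rw [map_mul, map_zpow, map_mul, map_zpow, hπu, zpow_neg, inv_mul_eq_one] at h2
      rw [pow_succ', MulAut.mul_apply, ← h2, ← zpow_mul, mul_comm, ← pow_succ]
  have hp1 := hiter (p ^ n)
  rw [hn, MulAut.one_apply] at hp1
  have h3 : (orderOf (π u) : ℤ) ∣ i ^ p ^ n - 1 :=
    orderOf_dvd_iff_zpow_eq_one.2 (by rw [zpow_sub, ← hp1, zpow_one, mul_inv_cancel])
  rw [hord, ← ZMod.intCast_zmod_eq_zero_iff_dvd, Int.cast_sub, Int.cast_pow, ZMod.pow_card_pow,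
    ← Int.cast_sub, ZMod.intCast_zmod_eq_zero_iff_dvd] at h3
  have h4 : (orderOf (π u) : ℤ) ∣ i - 1 := by rwa [hord]
  rw [orderOf_dvd_iff_zpow_eq_one, zpow_sub, zpow_one, mul_inv_eq_one] at h4
  rw [hπu, h4]

end Group

variable {Ω : Type*} [Group Ω] {S : Subgroup Ω} {p : ℕ} [Fact p.Prime] {F : FusionSystem S} {P : Subgroup Ω}

variable (F) in
/-- Conjugation by `N_S(P)` on `P`, inside the automiser. -/
def conjN (hPS : P ≤ S) : normalizerIn S P →* F.autGroup P :=
  (P.normalizerMonoidHom.comp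
    (Subgroup.inclusion (inf_le_right : normalizerIn S P ≤ Subgroup.normalizer (P : Set Ω)))).codRestrict _
    fun g => autInducedBy_le_autGroup F hPS (mem_autInducedBy.2 ⟨g, g.2.1, fun _ => rfl⟩)

omit [Fact p.Prime] in
@[simp] theorem conjN_apply (hPS : P ≤ S) (g : normalizerIn S P) (x : P) :
    (((conjN F hPS g : MulAut P) x : P) : Ω) = g * x * (g : Ω)⁻¹ := rfl

omit [Fact p.Prime] in
theorem conjN_range (hPS : P ≤ S) :
    (conjN F hPS).range = (autInducedBy S P).subgroupOf (F.autGroup P) := by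
  ext a
  rw [Subgroup.mem_subgroupOf, mem_autInducedBy, MonoidHom.mem_range]
  constructor
  · rintro ⟨g, rfl⟩
    exact ⟨g, g.2.1, fun _ => rfl⟩
  · rintro ⟨g, hg, h⟩
    exact ⟨⟨g, hg, mem_normalizer_of_aut h⟩, Subtype.ext (MulEquiv.ext fun x => Subtype.ext (h x).symm)⟩

theorem conjN_pow_eq_one (hS : IsPGroup p S) (hPS : P ≤ S) (g : normalizerIn S P) :
    ∃ n, (conjN F hPS g : MulAut P) ^ p ^ n = 1 := by
  obtain ⟨n, hn⟩ := (isPGroup_of_le hS (normalizerIn_le P)) g
  exact ⟨n, by rw [← Subgroup.coe_pow, ← map_pow, hn, map_one]; rfl⟩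

variable [Finite S]

/-- An element of `N_S(P)` inducing an element of a normal `p`-subgroup of the automiser of an essential `P`
lies in `P`. -/
theorem mem_of_normal_pGroup (hS : IsPGroup p S) (hF : F.IsSaturated p) (hess : F.IsEssential p P)
    (K : Subgroup (F.autGroup P)) (hKn : K.Normal) (hK : IsPGroup p K) {g : normalizerIn S P}
    (hg : conjN F hess.2.1.1 g ∈ K) : (g : Ω) ∈ P := by
  by_contra hgP
  have hrad := (radical_of_essential hS hF hess).2
  have hle : K ≤ pCore p (F.autGroup P) := le_sSup ⟨hKn, hK⟩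
  have hinn : (conjN F hess.2.1.1 g : MulAut P) ∈ Inn P := hrad.le ⟨_, hle hg, rfl⟩
  exact not_inn_of_not_mem (hess.1.2 P (isConj_refl F hess.2.1.1)) hess.2.1.1 g.2 hgP hinn

/-- `N_S(P)` exceeds `P` for an essential `P`. -/
theorem exists_normalizer_not_mem (hS : IsPGroup p S) (hF : F.IsSaturated p) (hess : F.IsEssential p P) :
    ∃ g : normalizerIn S P, (g : Ω) ∉ P := by
  obtain ⟨M, -, -, -, hne⟩ := FusionEssential.exists_data hS hF hess
  obtain ⟨g, hg, hgP⟩ := SetLike.exists_of_lt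
    (FusionP3.Induction.lt_normalizerIn hS (lt_of_le_of_ne hess.2.1.1 hne))
  exact ⟨⟨g, hg⟩, hgP⟩

/-- The stabiliser of the series `P ≥ M ≥ Φ(P)` gives no room for an essential `P` if both steps are cyclic. -/
theorem false_of_step (hS : IsPGroup p S) (hF : F.IsSaturated p) (hess : F.IsEssential p P)
    (M : Subgroup P) (hΦ : frattini P ≤ M) (hM : ∀ γ ∈ F.autGroup P, ∀ x ∈ M, γ x ∈ M)
    {v u : P} (hv : Subgroup.zpowers v ⊔ M = ⊤) (hu : u ∈ M) (hMu : M ≤ Subgroup.zpowers u ⊔ frattini P) :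
    False := by
  have hPS : P ≤ S := hess.2.1.1
  haveI := finite_sub hPS
  have hPp := isPGroup_of_le hS hPS
  haveI := normal_of_frattini_le hPp hΦ
  let K : Subgroup (F.autGroup P) :=
    { carrier := {γ | ∀ x : P, x⁻¹ * (γ : MulAut P) x ∈ M ∧ (x ∈ M → x⁻¹ * (γ : MulAut P) x ∈ frattini P)}
      one_mem' := fun x => by simp
      mul_mem' := fun {a b} ha hb x => by
        have e : x⁻¹ * ((a : MulAut P) * (b : MulAut P)) x =
            (x⁻¹ * (b : MulAut P) x) * (((b : MulAut P) x)⁻¹ * (a : MulAut P) ((b : MulAut P) x)) := by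
          rw [MulAut.mul_apply]; group
        rw [Subgroup.coe_mul, e]
        exact ⟨mul_mem (hb x).1 (ha _).1,
          fun hx => mul_mem ((hb x).2 hx) ((ha _).2 (hM _ b.2 x hx))⟩
      inv_mem' := fun {a} ha x => by
        have e : x⁻¹ * ((a : MulAut P)⁻¹) x =
            (((a : MulAut P)⁻¹ x)⁻¹ * (a : MulAut P) ((a : MulAut P)⁻¹ x))⁻¹ := by
          rw [MulAut.apply_inv_self]; group
        rw [Subgroup.coe_inv, e]
        exact ⟨inv_mem (ha _).1, fun hx => inv_mem ((ha _).2 (hM _ (inv_mem a.2) x hx))⟩ }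
  have hKn : K.Normal := ⟨fun a ha γ x => by
    set y := (γ : MulAut P)⁻¹ x with hy
    have e : x⁻¹ * ((γ * a * γ⁻¹ : F.autGroup P) : MulAut P) x =
        (γ : MulAut P) (y⁻¹ * (a : MulAut P) y) := by
      rw [map_mul, map_inv, hy, MulAut.apply_inv_self]
      simp [MulAut.mul_apply]
    rw [e]
    exact ⟨hM _ γ.2 _ (ha y).1,
      fun hx => aut_mem_frattini _ ((ha y).2 (hM _ (inv_mem γ.2) x hx))⟩⟩
  have hKp : IsPGroup p K := by
    refine FusionEssential.PClosed.isPGroup_of_coprime_trivial K fun a ha hco => ?_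
    refine Subtype.ext (eq_one_of_trivial_frattini hPp (by rwa [Subgroup.orderOf_coe]) fun x => ?_)
    set d := x⁻¹ * (a : MulAut P) x with hd
    let π : P →* P ⧸ frattini P := QuotientGroup.mk' _
    have hπ : ∀ z, π z = 1 ↔ z ∈ frattini P := fun z => QuotientGroup.eq_one_iff z
    have hdd : π ((a : MulAut P) d) = π d := by
      rw [eq_comm, ← inv_mul_eq_one, ← map_inv, ← map_mul, hπ]
      exact (ha d).2 (ha x).1
    have hiter : ∀ k : ℕ, π (((a : MulAut P) ^ k) x) = π x * π d ^ k := by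
      intro k
      induction k with
      | zero => simp
      | succ k ih =>
        have h1 : (x * d ^ k)⁻¹ * ((a : MulAut P) ^ k) x ∈ frattini P := by
          rw [← hπ, map_mul, map_inv, map_mul, map_pow, ih, inv_mul_cancel]
        have h2 := (hπ _).2 (aut_mem_frattini (a : MulAut P) h1)
        simp only [map_mul, map_inv, map_pow, hdd, inv_mul_eq_one] at h2
        rw [pow_succ' (a : MulAut P), MulAut.mul_apply, ← h2, show (a : MulAut P) x = x * d by rw [hd]; group,
          map_mul, pow_succ', mul_assoc]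
    have h0 := hiter (orderOf (a : MulAut P))
    rw [pow_orderOf_eq_one, MulAut.one_apply, eq_comm, mul_eq_left] at h0
    rw [← hπ, ← orderOf_eq_one_iff]
    refine Nat.eq_one_of_dvd_coprimes (by rwa [Subgroup.orderOf_coe]) (orderOf_dvd_of_pow_eq_one h0)
      (orderOf_dvd_of_pow_eq_one ?_)
    rw [← map_pow, hπ]
    exact PGroups.pow_mem_frattini hPp d
  obtain ⟨g, hg⟩ := exists_normalizer_not_mem hS hF hess
  refine hg (mem_of_normal_pGroup hS hF hess K hKn hKp fun x => ⟨?_, fun hx => ?_⟩)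
  · refine step_trivial (conjN_pow_eq_one hS hPS g) M (hM _ (conjN F hPS g).2)
      (hΦ (PGroups.pow_mem_frattini hPp v)) (by rw [hv]; trivial) x (by rw [hv]; trivial)
  · refine step_trivial (conjN_pow_eq_one hS hPS g) (frattini P) (fun z hz => aut_mem_frattini _ hz)
      (PGroups.pow_mem_frattini hPp u) (hMu (hM _ (conjN F hPS g).2 u hu)) x (hMu hx)

end Cfsg.Agent.Lib.Resistant67
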