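import Cfsg.Agent.Lib.Resistant67.Extend

/-!
# Essential subgroups with at most `p²` elements of order dividing `p`

Apart from the elementary abelian group of order `p²` they do not exist in a regular setting.
-/

set_option autoImplicit false
set_option linter.style.haveILetI false

namespace Cfsg.Agent.Lib.Resistant67

open Cfsg Cfsg.FusionSystem Cfsg.Agent.Lib Cfsg.Agent.Lib.FS Cfsg.Agent.Lib.PGroupTheory
open scoped commutatorElement

section Group

variable {G : Type*} [Group G] [Finite G] {p : ℕ} [Fact p.Prime]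

/-- A step of index at most `p` is generated by one element. -/
theorem exists_zpowers_sup (hG : IsPGroup p G) {L M : Subgroup G} (hLM : L ≤ M)
    (h : L.index ≤ p * M.index) : ∃ u ∈ M, M ≤ Subgroup.zpowers u ⊔ L := by
  rcases eq_or_lt_of_le hLM with rfl | hlt
  · exact ⟨1, L.one_mem, le_sup_right⟩
  obtain ⟨u, huM, huL⟩ := SetLike.exists_of_lt hlt
  refine ⟨u, huM, ?_⟩
  by_contra hnot
  have hX : L < Subgroup.zpowers u ⊔ L := lt_of_le_of_ne le_sup_right fun he =>
    huL (he ▸ Subgroup.mem_sup_left (Subgroup.mem_zpowers u))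
  have hXM : Subgroup.zpowers u ⊔ L < M :=
    lt_of_le_not_ge (sup_le (Subgroup.zpowers_le.2 huM) hLM) hnot
  have h1 := prime_mul_index_le hG hX
  have h2 := prime_mul_index_le hG hXM
  have hp1 := (Fact.out : p.Prime).one_lt
  have h3 : 0 < M.index := Nat.pos_of_ne_zero Subgroup.index_ne_zero_of_finite
  nlinarith [Nat.mul_le_mul_left p h2, Nat.mul_le_mul_right M.index (Nat.succ_le_of_lt hp1)]

/-- In a regular group the elements killed by `p ^ 2`-th powers modulo: a `p`-th power lying among the
`p²`-th powers comes from `℧₁ Ω₁`. -/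
theorem mem_powerClosure_of_pow_mem (hG : IsPGroup p G) (hR1 : RegularAt p 1 G) (hR2 : RegularAt p 2 G)
    (hO : ∀ x : G, x ^ p = 1 → x ∈ powerClosure p 1 (⊤ : Subgroup G)) {c : G}
    (hc : c ^ p ∈ powerClosure p 2 (⊤ : Subgroup G)) : c ∈ powerClosure p 1 (⊤ : Subgroup G) := by
  obtain ⟨y, -, hy⟩ := exists_eq_pow_of_mem_powerClosure hG hR2 hc
  have e : (y ^ p) ^ p ^ 1 = c ^ p ^ 1 := by rw [pow_one, hy, ← pow_mul, sq]
  have h1 := (pow_eq_pow_iff hG hR1).1 e
  rw [pow_one] at h1
  have := mul_mem (pow_mem_powerClosure_one (p := p) (Subgroup.mem_top y)) (hO _ h1)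
  simpa using this

end Group

variable {Ω : Type*} [Group Ω] {S : Subgroup Ω} [Finite S] {p : ℕ} [Fact p.Prime] {F : FusionSystem S}
  {P : Subgroup Ω}

/-- An element of `N_S(P)` trivial on `P / Φ(P)` lies in an essential `P`. -/
theorem mem_of_trivial_frattini (hS : IsPGroup p S) (hF : F.IsSaturated p) (hess : F.IsEssential p P)
    {g : normalizerIn S P}
    (hg : ∀ x : P, x⁻¹ * (conjN F hess.2.1.1 g : MulAut P) x ∈ frattini P) : (g : Ω) ∈ P := by
  haveI := finite_sub hess.2.1.1
  let K : Subgroup (F.autGroup P) :=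
    { carrier := {γ | ∀ x : P, x⁻¹ * (γ : MulAut P) x ∈ frattini P}
      one_mem' := fun x => by simp
      mul_mem' := fun {a b} ha hb x => by
        rw [show x⁻¹ * ((a * b : F.autGroup P) : MulAut P) x = (x⁻¹ * (b : MulAut P) x) *
          (((b : MulAut P) x)⁻¹ * (a : MulAut P) ((b : MulAut P) x)) by
            rw [Subgroup.coe_mul, MulAut.mul_apply]; group]
        exact mul_mem (hb x) (ha _)
      inv_mem' := fun {a} ha x => by
        have e : x⁻¹ * ((a : MulAut P)⁻¹) x =
            (((a : MulAut P)⁻¹ x)⁻¹ * (a : MulAut P) ((a : MulAut P)⁻¹ x))⁻¹ := by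
          rw [MulAut.apply_inv_self]; group
        rw [Subgroup.coe_inv, e]
        exact inv_mem (ha _) }
  have hKn : K.Normal := ⟨fun a ha γ x => by
    set y := (γ : MulAut P)⁻¹ x with hy
    have e : x⁻¹ * ((γ * a * γ⁻¹ : F.autGroup P) : MulAut P) x =
        (γ : MulAut P) (y⁻¹ * (a : MulAut P) y) := by
      rw [map_mul, map_inv, hy, MulAut.apply_inv_self]
      simp [MulAut.mul_apply]
    rw [e]
    exact aut_mem_frattini _ (ha y)⟩
  exact mem_of_normal_pGroup hS hF hess K hKn
    (FusionEssential.PClosed.isPGroup_of_coprime_trivial K fun a ha hco => Subtype.ext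
      (eq_one_of_trivial_frattini (isPGroup_of_le hS hess.2.1.1) (by rwa [Subgroup.orderOf_coe]) ha)) hg

/-- No essential subgroup has an invariant subgroup strictly between it and a Frattini subgroup of index at
most `p²`. -/
theorem false_of_between (hS : IsPGroup p S) (hF : F.IsSaturated p) (hess : F.IsEssential p P)
    (hidx : (frattini P).index ≤ p ^ 2) {M : Subgroup P} (hΦM : frattini P < M) (hMtop : M ≠ ⊤)
    (hM : ∀ γ ∈ F.autGroup P, ∀ x ∈ M, γ x ∈ M) : False := by
  haveI := finite_sub hess.2.1.1
  have hPp := isPGroup_of_le hS hess.2.1.1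
  have h1 := prime_mul_index_le hPp hΦM
  have h2 := prime_mul_index_le hPp (lt_top_iff_ne_top.2 hMtop)
  rw [Subgroup.index_top, mul_one] at h2
  have hMi : M.index ≤ p :=
    Nat.le_of_mul_le_mul_left (h1.trans (hidx.trans (by rw [sq]))) (Fact.out : p.Prime).pos
  obtain ⟨v, -, hv⟩ := exists_zpowers_sup hPp (le_top : M ≤ ⊤) (by rwa [Subgroup.index_top, mul_one])
  obtain ⟨u, hu, hMu⟩ := exists_zpowers_sup hPp hΦM.le
    (hidx.trans (by rw [sq]; exact Nat.mul_le_mul_left p h2))
  exact false_of_step hS hF hess M hΦM.le hM (top_le_iff.1 hv) hu hMu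

/-- An essential subgroup with at most `p²` elements of order dividing `p` is elementary abelian. -/
theorem pow_eq_one_of_small (hS : IsPGroup p S) (hF : F.IsSaturated p) (hp5 : 5 ≤ p)
    (hreg : ∀ Q : Subgroup Ω, Q ≤ S → IsRegularPGroup p Q) (hess : F.IsEssential p P)
    (hsmall : Nat.card {x : P // x ^ p = 1} ≤ p ^ 2) : ∀ x : P, x ^ p = 1 := by
  have hPS : P ≤ S := hess.2.1.1
  haveI := finite_sub hPS
  have hPp := isPGroup_of_le hS hPS
  have hR := (isRegularPGroup_iff.1 (hreg P hPS)).2
  by_contra hne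
  set U := powerClosure p 1 (⊤ : Subgroup P) with hUdef
  obtain ⟨O, hOn, hO⟩ := exists_subgroup_of_regularAt hPp (hR 1)
  have hUidx : U.index = Nat.card {x : P // x ^ p = 1} := index_powerClosure_eq hPp (hR 1)
  obtain ⟨hcomm, hcyc, -⟩ := commutator_cyclic_of_index_le hPp (hR 1) (hUidx.le.trans hsmall)
  haveI hUn : U.Normal := powerClosure_normal (⊤ : Subgroup P) 1
  have hΦ : frattini P = U := by
    refine le_antisymm (PGroups.frattini_le_of_pow_commutator U
      (fun x => pow_mem_powerClosure_one (Subgroup.mem_top x)) hcomm) ((Subgroup.closure_le _).2 ?_)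
    rintro _ ⟨x, -, rfl⟩
    rw [pow_one]
    exact PGroups.pow_mem_frattini hPp x
  have hidx : (frattini P).index ≤ p ^ 2 := by rw [hΦ, hUidx]; exact hsmall
  by_cases hle : U.index ≤ p
  · obtain ⟨v, -, hv⟩ := exists_zpowers_sup hPp (le_top : frattini P ≤ ⊤)
      (by rw [hΦ, Subgroup.index_top, mul_one]; exact hle)
    exact false_of_step hS hF hess (frattini P) le_rfl (fun γ _ x hx => aut_mem_frattini γ hx)
      (top_le_iff.1 hv) (one_mem _) le_sup_right
  have hU2 : U.index = p ^ 2 := by
    obtain ⟨k, hk⟩ := hPp.index U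
    rw [hk] at hle ⊢
    have h2 : p ^ k ≤ p ^ 2 := by rw [← hk, hUidx]; exact hsmall
    have hk2 := (Nat.pow_le_pow_iff_right (Fact.out : p.Prime).one_lt).1 h2
    rcases lt_or_eq_of_le hk2 with h | rfl
    · exact absurd ((Nat.pow_le_pow_right (Fact.out : p.Prime).pos
        (Nat.le_of_lt_succ h)).trans (pow_one p).le) hle
    · rfl
  by_cases hOU : O ≤ U
  swap
  · refine false_of_between hS hF hess hidx (M := O ⊔ frattini P) ?_ ?_ ?_
    · exact lt_of_le_of_ne le_sup_right fun he => hOU (by rw [← hΦ, he]; exact le_sup_left)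
    · intro htop
      have h : O = ⊤ := eq_of_le_sup_powerClosure hPp le_top (by rw [← hUdef, ← hΦ, htop])
      exact hne fun x => (hO x).1 (h ▸ Subgroup.mem_top x)
    · intro γ _ x hx
      have : O ⊔ frattini P ≤ (O ⊔ frattini P).comap γ.toMonoidHom := sup_le
        (fun y hy => Subgroup.mem_sup_left ((hO _).2 (by
          show γ y ^ p = 1
          rw [← map_pow, (hO y).1 hy, map_one])))
        (fun y hy => Subgroup.mem_sup_right (aut_mem_frattini γ hy))
      exact this hx
  have hOU' : ∀ x : P, x ^ p = 1 → x ∈ U := fun x hx => hOU ((hO x).2 hx)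
  set V := powerClosure p 2 (⊤ : Subgroup P) with hVdef
  haveI hVn : V.Normal := powerClosure_normal (⊤ : Subgroup P) 2
  by_cases hPV : commutator P ≤ V
  · -- the normaliser acts trivially on `P / Φ(P)`
    obtain ⟨g, hgP⟩ := exists_normalizer_not_mem hS hF hess
    refine hgP (mem_of_trivial_frattini hS hF hess ?_)
    rw [hΦ]
    by_contra hmove
    push Not at hmove
    obtain ⟨u₀, hu₀⟩ := hmove
    set θ : MulAut P := (conjN F hPS g : MulAut P) with hθ
    obtain ⟨f, hf, hfK, hfg⟩ := Plane.exists_coords U hU2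
      (fun x => pow_mem_powerClosure_one (Subgroup.mem_top x)) θ
      (fun x hx => by rw [← hΦ] at hx ⊢; exact aut_mem_frattini θ hx) (conjN_pow_eq_one hS hPS g) hu₀
    -- `g ^ p` is trivial on the section, so lies in `P`
    have hgp : (g : Ω) ^ p ∈ P := by
      have := mem_of_trivial_frattini hS hF hess (g := g ^ p) fun x => by
        obtain ⟨c, hc, hc'⟩ := hfg.pow_lower p
        rw [hΦ, ← hfK, hf.add, hf.inv, show (conjN F hPS (g ^ p) : MulAut P) = θ ^ p by
          rw [map_pow, Subgroup.coe_pow], hc x, hc' rfl rfl]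
        simp
      simpa using this
    haveI := finite_sub (normalizerIn_le P : normalizerIn S P ≤ S)
    have hNp := isPGroup_of_le hS (normalizerIn_le P : normalizerIn S P ≤ S)
    have hRN := (isRegularPGroup_iff.1 (hreg (normalizerIn S P) (normalizerIn_le P))).2
    let ι : P →* normalizerIn S P := Subgroup.inclusion (le_normalizerIn hPS)
    haveI hP1 : ι.range.Normal := ⟨fun x ⟨y, hy⟩ h =>
      ⟨(conjN F hPS h : MulAut P) y, by subst hy; exact Subtype.ext rfl⟩⟩
    haveI := powerClosure_normal (p := p) ι.range 2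
    set V1 := powerClosure p 2 ι.range with hV1
    have hV1map : V.map ι = V1 := by
      rw [hVdef, hV1, map_powerClosure, MonoidHom.range_eq_map]
    refine hu₀ ?_
    set x : P := u₀
    -- the commutator lies in `P`, with `p`-th power a `p²`-th power
    set c : P := θ x * x⁻¹ with hc
    have hcι : ι c = ⁅g, ι x⁆ := Subtype.ext (by
      simp [ι, c, θ, commutatorElement_def, mul_assoc])
    have hq : Commute ((QuotientGroup.mk' V1 g) ^ p) (QuotientGroup.mk' V1 (ι x)) := by
      rw [← map_pow]
      refine commutatorElement_eq_one_iff_commute.1 ?_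
      rw [← map_commutatorElement]
      refine (QuotientGroup.eq_one_iff _).2 ?_
      rw [show g ^ p = ι ⟨(g : Ω) ^ p, hgp⟩ from Subtype.ext (by simp [ι]), ← map_commutatorElement,
        ← hV1map]
      exact Subgroup.mem_map_of_mem ι
        (hPV (Subgroup.commutator_mem_commutator (Subgroup.mem_top _) (Subgroup.mem_top _)))
    have h1 := commutatorElement_pow_eq_one (hNp.to_quotient V1) (RegularAt.quotient (hRN 1) V1) hq
    rw [← map_commutatorElement, ← map_pow, QuotientGroup.mk'_apply, QuotientGroup.eq_one_iff, ← hcι,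
      ← map_pow, ← hV1map, Subgroup.mem_map_iff_mem (Subgroup.inclusion_injective _)] at h1
    have hcU := mem_powerClosure_of_pow_mem hPp (hR 1) (hR 2) hOU' h1
    have := hUn.conj_mem c hcU x⁻¹
    rw [hc, inv_inv] at this
    simpa [mul_assoc] using this
  · -- the elements whose `p`-th power lies in `P' ℧₂`
    set W := commutator P ⊔ V with hW
    haveI : W.Normal := Subgroup.sup_normal _ _
    have habel : ∀ a b : P, Commute (QuotientGroup.mk' W a) (QuotientGroup.mk' W b) := fun a b => by
      refine commutatorElement_eq_one_iff_commute.1 ?_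
      rw [← map_commutatorElement]
      exact (QuotientGroup.eq_one_iff _).2 (Subgroup.mem_sup_left
        (Subgroup.commutator_mem_commutator (Subgroup.mem_top a) (Subgroup.mem_top b)))
    let M : Subgroup P :=
      { carrier := {x | x ^ p ∈ W}
        one_mem' := by simp [W.one_mem]
        mul_mem' := fun {a b} ha hb => by
          show (a * b) ^ p ∈ W
          rw [← QuotientGroup.eq_one_iff, ← QuotientGroup.mk'_apply, map_pow, map_mul, (habel a b).mul_pow,
            ← map_pow, ← map_pow, QuotientGroup.mk'_apply, QuotientGroup.mk'_apply,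
            (QuotientGroup.eq_one_iff _).2 ha, (QuotientGroup.eq_one_iff _).2 hb, one_mul]
        inv_mem' := fun {a} ha => by simpa using W.inv_mem ha }
    have hUM : U ≤ M := (Subgroup.closure_le _).2 fun z ⟨y, _, hy⟩ => by
      show z ^ p ∈ W
      rw [hy, pow_one, ← pow_mul, ← sq]
      exact Subgroup.mem_sup_right (pow_mem_powerClosure (Subgroup.mem_top y))
    refine false_of_between hS hF hess hidx (M := M) ?_ ?_ ?_
    · rw [hΦ]
      refine lt_of_le_of_ne hUM fun he => ?_
      obtain ⟨c, hc, hcV⟩ := SetLike.not_le_iff_exists.1 hPV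
      obtain ⟨x, -, hx⟩ := exists_eq_pow_of_mem_powerClosure hPp (hR 1) (hcomm hc)
      rw [pow_one] at hx
      have hxU : x ∈ U := he ▸ (show x ^ p ∈ W from hx ▸ Subgroup.mem_sup_left hc)
      obtain ⟨y, -, hy⟩ := exists_eq_pow_of_mem_powerClosure hPp (hR 1) hxU
      refine hcV ?_
      rw [hx, hy, pow_one, ← pow_mul, ← sq]
      exact pow_mem_powerClosure (Subgroup.mem_top y)
    · intro htop
      let π : P →* P ⧸ V := QuotientGroup.mk' V
      let I : Subgroup (P ⧸ V) := (commutator P).map π
      have hWI : ∀ w ∈ W, π w ∈ I := fun w hw => by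
        have : W.map π = I := by
          rw [hW, Subgroup.map_sup, (Subgroup.map_eq_bot_iff _).2 (QuotientGroup.ker_mk' V).ge, sup_bot_eq]
        exact this ▸ Subgroup.mem_map_of_mem π hw
      have hcard : Nat.card I ≤ p := by
        haveI := hcyc
        haveI : IsCyclic I := isCyclic_of_surjective _ (π.subgroupMap_surjective (commutator P))
        obtain ⟨w, hw⟩ := IsCyclic.exists_generator (α := I)
        rw [← orderOf_eq_card_of_forall_mem_zpowers hw]
        refine Nat.le_of_dvd (Fact.out : p.Prime).pos (orderOf_dvd_of_pow_eq_one (Subtype.ext ?_))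
        obtain ⟨c, hc, hcw⟩ := w.2
        obtain ⟨y, -, hy⟩ := exists_eq_pow_of_mem_powerClosure hPp (hR 1) (hcomm hc)
        rw [Subgroup.coe_pow, ← hcw, ← map_pow, Subgroup.coe_one]
        refine (QuotientGroup.eq_one_iff _).2 ?_
        rw [hy, pow_one, ← pow_mul, ← sq]
        exact pow_mem_powerClosure (Subgroup.mem_top y)
      let h : P ⧸ U → I := fun q => ⟨π (q.out ^ p), hWI _ (show q.out ∈ M from htop ▸ Subgroup.mem_top _)⟩
      have hinj : Function.Injective h := fun q q' e => by
        have e' : π q.out ^ p ^ 1 = π q'.out ^ p ^ 1 := by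
          rw [pow_one, ← map_pow, ← map_pow]; exact congrArg Subtype.val e
        have h1 := (pow_eq_pow_iff (hPp.to_quotient V) (RegularAt.quotient (hR 1) V)).1 e'
        rw [pow_one, ← map_inv, ← map_mul, ← map_pow] at h1
        have h2 : q.out⁻¹ * q'.out ∈ U :=
          mem_powerClosure_of_pow_mem hPp (hR 1) (hR 2) hOU' ((QuotientGroup.eq_one_iff _).1 h1)
        rw [← QuotientGroup.eq, QuotientGroup.out_eq', QuotientGroup.out_eq'] at h2
        exact h2
      have := (Nat.card_le_card_of_injective h hinj).trans hcard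
      rw [← Subgroup.index_eq_card, hU2] at this
      have hp1 := (Fact.out : p.Prime).one_lt
      nlinarith
    · intro γ _ x hx
      show γ x ^ p ∈ W
      have : W ≤ W.comap γ.toMonoidHom := sup_le
        (fun y hy => Subgroup.mem_sup_left
          (Subgroup.characteristic_iff_le_comap.1 inferInstance γ hy))
        ((Subgroup.closure_le _).2 fun z ⟨y, _, hy⟩ => Subgroup.mem_sup_right (by
          show γ z ∈ V
          rw [hy, map_pow]
          exact pow_mem_powerClosure (Subgroup.mem_top _)))
      rw [← map_pow]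
      exact this hx

end Cfsg.Agent.Lib.Resistant67
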