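import Cfsg.Agent.Lib.Resistant67.Plane
import Cfsg.Agent.Lib.PGroups.Frattini
import Cfsg.Agent.Lib.PGroups.MaxAbelian

/-!
# Nonabelian groups of order `p³`

Coordinates on the quotient by the centre, and automorphisms that are trivial on it.
-/

set_option autoImplicit false
set_option linter.style.haveILetI false

namespace Cfsg.Agent.Lib.Resistant67

open Cfsg.Agent.Lib Plane
open scoped commutatorElement

variable {E : Type*} [Group E] [Finite E] {p : ℕ} [hp : Fact p.Prime]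

/-- A nonabelian group of order `p³` has centre of order `p`. -/
theorem card_center_of_cube (hc : Nat.card E = p ^ 3) (hne : ∃ a b : E, a * b ≠ b * a) :
    Nat.card (Subgroup.center E) = p ∧ (Subgroup.center E).index = p ^ 2 := by
  have hE : IsPGroup p E := IsPGroup.of_card hc
  haveI : Nontrivial E := Finite.one_lt_card_iff_nontrivial.1 (by
    rw [hc]; exact Nat.one_lt_pow (by omega) hp.out.one_lt)
  haveI := hE.center_nontrivial
  obtain ⟨k, hk⟩ := IsPGroup.iff_card.1 (hE.to_subgroup (Subgroup.center E))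
  obtain ⟨l, hl⟩ := hE.index (Subgroup.center E)
  have hkl : k + l = 3 := Nat.pow_right_injective hp.out.two_le
    (show p ^ (k + l) = p ^ 3 by rw [pow_add, ← hk, ← hl, Subgroup.card_mul_index, hc])
  have hk0 : k ≠ 0 := fun h => by
    have := Finite.one_lt_card (α := Subgroup.center E)
    rw [hk, h, pow_zero] at this
    omega
  have hl2 : ¬ l ≤ 1 := fun h => by
    obtain ⟨a, b, hab⟩ := hne
    haveI : IsCyclic (E ⧸ Subgroup.center E) := by
      rcases Nat.le_one_iff_eq_zero_or_eq_one.1 h with rfl | rfl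
      · haveI : Subsingleton (E ⧸ Subgroup.center E) :=
          (Nat.card_eq_one_iff_unique.1 (by rw [← Subgroup.index_eq_card, hl, pow_zero])).1
        infer_instance
      · exact isCyclic_of_prime_card (p := p) (by rw [← Subgroup.index_eq_card, hl, pow_one])
    exact hab ((isMulCommutative_of_isCyclic_quotient_center_self E).is_comm.comm a b)
  obtain ⟨rfl, rfl⟩ : k = 1 ∧ l = 2 := ⟨by omega, by omega⟩
  exact ⟨by rw [hk, pow_one], hl⟩

/-- Coordinates on an elementary abelian quotient of order `p²`. -/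
theorem exists_coords_of_elementary (K : Subgroup E) [K.Normal] (hK : K.index = p ^ 2)
    (hpow : ∀ x : E, x ^ p ∈ K) :
    ∃ f : E → ZMod p × ZMod p, Coords f ∧ ∀ x, f x = 0 ↔ x ∈ K := by
  have hcard : Nat.card (E ⧸ K) = p ^ 2 := by rw [← Subgroup.index_eq_card, hK]
  letI : CommGroup (E ⧸ K) :=
    { (inferInstance : Group (E ⧸ K)) with
      mul_comm := (IsPGroup.isMulCommutative_of_card_eq_prime_sq (p := p) hcard).is_comm.comm }
  have hexp : ∀ q : Additive (E ⧸ K), p • q = 0 := fun q => by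
    obtain ⟨x, hx⟩ := QuotientGroup.mk_surjective (Additive.toMul q)
    show Additive.toMul q ^ p = 1
    rw [← hx, ← QuotientGroup.mk_pow, QuotientGroup.eq_one_iff]
    exact hpow x
  letI : Module (ZMod p) (Additive (E ⧸ K)) := AddCommGroup.zmodModule (n := p) hexp
  haveI : Module.Finite (ZMod p) (Additive (E ⧸ K)) := Module.Finite.of_finite
  have hrk : Module.finrank (ZMod p) (Additive (E ⧸ K)) = Module.finrank (ZMod p) (ZMod p × ZMod p) := by
    rw [Module.finrank_prod, Module.finrank_self]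
    refine Nat.pow_right_injective hp.out.two_le (show p ^ _ = p ^ 2 from ?_)
    rw [← hcard, show Nat.card (E ⧸ K) = Nat.card (Additive (E ⧸ K)) from rfl,
      Module.natCard_eq_pow_finrank (K := ZMod p) (V := Additive (E ⧸ K)), Nat.card_zmod]
  obtain ⟨e⟩ : Nonempty (Additive (E ⧸ K) ≃ₗ[ZMod p] ZMod p × ZMod p) :=
    FiniteDimensional.nonempty_linearEquiv_of_finrank_eq hrk
  refine ⟨fun x => e (Additive.ofMul (QuotientGroup.mk x)), ⟨fun x y => ?_, fun z => ?_⟩, fun x => ?_⟩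
  · rw [QuotientGroup.mk_mul, ofMul_mul, map_add]
  · obtain ⟨x, hx⟩ := QuotientGroup.mk_surjective (Additive.toMul (e.symm z))
    exact ⟨x, by simp only [hx, ofMul_toMul, LinearEquiv.apply_symm_apply]⟩
  · rw [LinearEquiv.map_eq_zero_iff]
    exact QuotientGroup.eq_one_iff x

variable (hc : Nat.card E = p ^ 3) (hne : ∃ a b : E, a * b ≠ b * a)
include hc hne

/-- Commutators are central. -/
theorem commutatorElement_mem_center_of_cube (a b : E) : ⁅a, b⁆ ∈ Subgroup.center E := by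
  have hidx := (card_center_of_cube hc hne).2
  have hcard : Nat.card (E ⧸ Subgroup.center E) = p ^ 2 := by rw [← Subgroup.index_eq_card, hidx]
  haveI := IsPGroup.isMulCommutative_of_card_eq_prime_sq (p := p) hcard
  rw [← QuotientGroup.eq_one_iff, ← QuotientGroup.mk'_apply, map_commutatorElement]
  exact commutatorElement_eq_one_iff_mul_comm.2 (IsMulCommutative.is_comm.comm _ _)

variable {f : E → ZMod p × ZMod p} (hf : Coords f) (hfK : ∀ x, f x = 0 ↔ x ∈ Subgroup.center E)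
include hf hfK

/-- Every element is a power product modulo the centre. -/
theorem exists_decomp {u w : E} (hu : f u = (1, 0)) (hw : f w = (0, 1)) (e : E) :
    ∃ ζ ∈ Subgroup.center E, e = u ^ (f e).1.val * w ^ (f e).2.val * ζ := by
  refine ⟨(u ^ (f e).1.val * w ^ (f e).2.val)⁻¹ * e, (hfK _).1 ?_, by group⟩
  rw [hf.add, hf.inv, hf.add, hf.pow, hf.pow, hu, hw]
  simp

/-- The commutator of a basis generates the centre. -/
theorem commutator_basis_ne_one {u w : E} (hu : f u = (1, 0)) (hw : f w = (0, 1)) :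
    ⁅u, w⁆ ≠ 1 := by
  intro h
  have hcm : Commute u w := commutatorElement_eq_one_iff_commute.1 h
  have : u ∈ Subgroup.center E := Subgroup.mem_center_iff.2 fun e => by
    obtain ⟨ζ, hζ, he⟩ := exists_decomp hc hne hf hfK hu hw e
    rw [he]
    exact ((((Commute.refl u).pow_right _).mul_right (hcm.pow_right _)).mul_right
      (Subgroup.mem_center_iff.1 hζ u)).symm.eq
  have h0 := (hfK u).2 this
  rw [hu, Prod.mk_eq_zero] at h0
  exact one_ne_zero h0.1

theorem center_eq_zpowers {u w : E} (hu : f u = (1, 0)) (hw : f w = (0, 1)) :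
    Subgroup.center E = Subgroup.zpowers ⁅u, w⁆ := by
  have h1 := commutatorElement_mem_center_of_cube hc hne u w
  refine (Subgroup.eq_of_le_of_card_ge (Subgroup.zpowers_le.2 h1) ?_).symm
  have hzc := (card_center_of_cube hc hne).1
  have hd : orderOf ⁅u, w⁆ ∣ p := by
    rw [← hzc, ← Subgroup.orderOf_mk _ h1]
    exact orderOf_dvd_natCard _
  rcases (Nat.dvd_prime hp.out).1 hd with h | h
  · exact absurd (orderOf_eq_one_iff.1 h) (commutator_basis_ne_one hc hne hf hfK hu hw)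
  · rw [Nat.card_zpowers, h, hzc]

/-- An automorphism trivial on the central quotient is inner. -/
theorem exists_inner {θ : MulAut E} (hθ : Has f θ 1 0 0 1) : ∃ h, θ = MulAut.conj h := by
  obtain ⟨u, hu⟩ := hf.surj (1, 0)
  obtain ⟨w, hw⟩ := hf.surj (0, 1)
  have hz := commutatorElement_mem_center_of_cube hc hne u w
  set z := ⁅u, w⁆ with hzdef
  have hmem : ∀ e, e⁻¹ * θ e ∈ Subgroup.zpowers z := fun e => by
    rw [hzdef, ← center_eq_zpowers hc hne hf hfK hu hw, ← hfK, hf.add, hf.inv, hθ e]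
    simp
  obtain ⟨i, hi⟩ := hmem u
  obtain ⟨j, hj⟩ := hmem w
  have hzc : ∀ e, e * z = z * e := Subgroup.mem_center_iff.1 hz
  have huw : ∀ m : ℤ, u ^ m * w * (u ^ m)⁻¹ = z ^ m * w := by
    intro m
    have h1 : u * w * u⁻¹ = z * w := by rw [hzdef, commutatorElement_def]; group
    induction m with
    | zero => simp
    | succ m ih =>
      calc u ^ ((m : ℤ) + 1) * w * (u ^ ((m : ℤ) + 1))⁻¹ = u * (u ^ (m : ℤ) * w * (u ^ (m : ℤ))⁻¹) * u⁻¹ := by
            group
        _ = u * z ^ (m : ℤ) * w * u⁻¹ := by rw [ih]; group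
        _ = z ^ (m : ℤ) * (u * w * u⁻¹) := by
            rw [((Commute.zpow_right (hzc u) (m : ℤ)) : u * z ^ (m : ℤ) = z ^ (m : ℤ) * u)]; group
        _ = z ^ ((m : ℤ) + 1) * w := by rw [h1, ← mul_assoc, zpow_add_one]
    | pred m ih =>
      have h2 : u⁻¹ * w * u = z⁻¹ * w := by
        calc u⁻¹ * w * u = u⁻¹ * (z⁻¹ * (z * w)) * u := by group
          _ = u⁻¹ * z⁻¹ * (u * w * u⁻¹) * u := by rw [h1]; group
          _ = z⁻¹ * u⁻¹ * (u * w * u⁻¹) * u := by
              rw [((Commute.inv_inv (hzc u)) : u⁻¹ * z⁻¹ = z⁻¹ * u⁻¹)]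
          _ = z⁻¹ * w := by group
      calc u ^ (-(m : ℤ) - 1) * w * (u ^ (-(m : ℤ) - 1))⁻¹
            = u⁻¹ * (u ^ (-(m : ℤ)) * w * (u ^ (-(m : ℤ)))⁻¹) * u := by group
        _ = u⁻¹ * z ^ (-(m : ℤ)) * w * u := by rw [ih]; group
        _ = z ^ (-(m : ℤ)) * (u⁻¹ * w * u) := by
            rw [((Commute.zpow_right (Commute.inv_left (hzc u)) (-(m : ℤ))) :
              u⁻¹ * z ^ (-(m : ℤ)) = z ^ (-(m : ℤ)) * u⁻¹)]; group
        _ = z ^ (-(m : ℤ) - 1) * w := by rw [h2, ← mul_assoc, zpow_sub_one]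
  have hwu : ∀ m : ℤ, w ^ m * u * (w ^ m)⁻¹ = (z ^ m)⁻¹ * u := by
    intro m
    have h1 : w * u * w⁻¹ = z⁻¹ * u := by rw [hzdef, commutatorElement_def]; group
    induction m with
    | zero => simp
    | succ m ih =>
      calc w ^ ((m : ℤ) + 1) * u * (w ^ ((m : ℤ) + 1))⁻¹ = w * (w ^ (m : ℤ) * u * (w ^ (m : ℤ))⁻¹) * w⁻¹ := by
            group
        _ = w * (z ^ (m : ℤ))⁻¹ * u * w⁻¹ := by rw [ih]; group
        _ = (z ^ (m : ℤ))⁻¹ * (w * u * w⁻¹) := by
            rw [((Commute.inv_right (Commute.zpow_right (hzc w) (m : ℤ))) :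
              w * (z ^ (m : ℤ))⁻¹ = (z ^ (m : ℤ))⁻¹ * w)]; group
        _ = (z ^ ((m : ℤ) + 1))⁻¹ * u := by rw [h1]; group
    | pred m ih =>
      have h2 : w⁻¹ * u * w = z * u := by
        calc w⁻¹ * u * w = w⁻¹ * (z * (z⁻¹ * u)) * w := by group
          _ = w⁻¹ * z * (w * u * w⁻¹) * w := by rw [h1]; group
          _ = z * w⁻¹ * (w * u * w⁻¹) * w := by
              rw [((Commute.inv_left (hzc w)) : w⁻¹ * z = z * w⁻¹)]
          _ = z * u := by group
      calc w ^ (-(m : ℤ) - 1) * u * (w ^ (-(m : ℤ) - 1))⁻¹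
            = w⁻¹ * (w ^ (-(m : ℤ)) * u * (w ^ (-(m : ℤ)))⁻¹) * w := by group
        _ = w⁻¹ * (z ^ (-(m : ℤ)))⁻¹ * u * w := by rw [ih]; group
        _ = (z ^ (-(m : ℤ)))⁻¹ * (w⁻¹ * u * w) := by
            rw [((Commute.inv_inv (Commute.zpow_right (hzc w) (-(m : ℤ)))) :
              w⁻¹ * (z ^ (-(m : ℤ)))⁻¹ = (z ^ (-(m : ℤ)))⁻¹ * w⁻¹)]; group
        _ = (z ^ (-(m : ℤ) - 1))⁻¹ * u := by rw [h2]; group
  refine ⟨u ^ j * w ^ (-i), ?_⟩
  have hcz : ∀ (m : ℤ) (e : E), e * z ^ m = z ^ m * e := fun m e => Commute.zpow_right (hzc e) m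
  have htop : Subgroup.closure ({u, w} : Set E) = ⊤ := eq_top_iff.2 fun e _ => by
    have hu' : u ∈ Subgroup.closure ({u, w} : Set E) := Subgroup.subset_closure (by simp)
    have hw' : w ∈ Subgroup.closure ({u, w} : Set E) := Subgroup.subset_closure (by simp)
    obtain ⟨ζ, hζ, he⟩ := exists_decomp hc hne hf hfK hu hw e
    rw [center_eq_zpowers hc hne hf hfK hu hw] at hζ
    obtain ⟨n, rfl⟩ := hζ
    rw [he]
    refine mul_mem (mul_mem (pow_mem hu' _) (pow_mem hw' _)) (zpow_mem ?_ _)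
    rw [commutatorElement_def]
    exact mul_mem (mul_mem (mul_mem hu' hw') (inv_mem hu')) (inv_mem hw')
  have heq : θ.toMonoidHom = (MulAut.conj (u ^ j * w ^ (-i))).toMonoidHom := by
    refine MonoidHom.eq_of_eqOn_dense htop ?_
    rintro x (rfl | rfl)
    · show θ x = x ^ j * w ^ (-i) * x * (x ^ j * w ^ (-i))⁻¹
      calc θ x = x * z ^ i := by rw [show z ^ i = x⁻¹ * θ x from hi]; group
        _ = z ^ i * x := hcz i x
        _ = x ^ j * z ^ i * x * (x ^ j)⁻¹ := by rw [hcz i (x ^ j)]; group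
        _ = x ^ j * (w ^ (-i) * x * (w ^ (-i))⁻¹) * (x ^ j)⁻¹ := by rw [hwu]; group
        _ = x ^ j * w ^ (-i) * x * (x ^ j * w ^ (-i))⁻¹ := by group
    · show θ x = u ^ j * x ^ (-i) * x * (u ^ j * x ^ (-i))⁻¹
      calc θ x = x * z ^ j := by rw [show z ^ j = x⁻¹ * θ x from hj]; group
        _ = z ^ j * x := hcz j x
        _ = u ^ j * x * (u ^ j)⁻¹ := (huw j).symm
        _ = u ^ j * x ^ (-i) * x * (u ^ j * x ^ (-i))⁻¹ := by group
  exact MulEquiv.ext fun x => DFunLike.congr_fun heq x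

/-- A triangular automorphism multiplies the centre by its determinant. -/
theorem apply_commutator_basis {θ : MulAut E} {a c d : ZMod p} (hθ : Has f θ a 0 c d) {u w : E}
    (hu : f u = (1, 0)) (hw : f w = (0, 1)) : θ ⁅u, w⁆ = ⁅u, w⁆ ^ (a.val * d.val) := by
  have hz := commutatorElement_mem_center_of_cube hc hne
  obtain ⟨ζ, hζ, hθu⟩ := exists_decomp hc hne hf hfK hu hw (θ u)
  obtain ⟨ζ', hζ', hθw⟩ := exists_decomp hc hne hf hfK hu hw (θ w)
  rw [hθ u, hu] at hθu
  rw [hθ w, hw] at hθw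
  simp only [mul_one, mul_zero, add_zero, zero_add, zero_mul, ZMod.val_zero, pow_zero, one_mul] at hθu hθw
  rw [map_commutatorElement, hθu, hθw]
  have hcz : ∀ x y : E, Commute x ⁅x, y⁆ := fun x y => Subgroup.mem_center_iff.1 (hz x y) x
  have e1 : ∀ (X : E), ⁅X, w ^ d.val * ζ'⁆ = ⁅X, w ^ d.val⁆ := fun X => by
    rw [commutatorElement_def, commutatorElement_def]
    calc X * (w ^ d.val * ζ') * X⁻¹ * (w ^ d.val * ζ')⁻¹
          = X * w ^ d.val * (ζ' * X⁻¹) * ζ'⁻¹ * (w ^ d.val)⁻¹ := by group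
      _ = X * w ^ d.val * X⁻¹ * (w ^ d.val)⁻¹ := by
          rw [← Subgroup.mem_center_iff.1 hζ' X⁻¹]; group
  have e2 : ⁅u ^ a.val * w ^ c.val * ζ, w ^ d.val⁆ = ⁅u ^ a.val, w ^ d.val⁆ := by
    have hcm : Commute (w ^ c.val * ζ) (w ^ d.val) :=
      Commute.mul_left ((Commute.refl w).pow_pow _ _) (Subgroup.mem_center_iff.1 hζ (w ^ d.val)).symm
    rw [commutatorElement_def, commutatorElement_def]
    calc u ^ a.val * w ^ c.val * ζ * w ^ d.val * (u ^ a.val * w ^ c.val * ζ)⁻¹ * (w ^ d.val)⁻¹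
          = u ^ a.val * (w ^ c.val * ζ * w ^ d.val) * (w ^ c.val * ζ)⁻¹ * (u ^ a.val)⁻¹ * (w ^ d.val)⁻¹ := by
            group
      _ = u ^ a.val * w ^ d.val * (u ^ a.val)⁻¹ * (w ^ d.val)⁻¹ := by rw [hcm.eq]; group
  rw [e1, e2, PGroups.commutatorElement_pow_left_of_central _ _ (hcz u _)]
  have e3 : ⁅u, w ^ d.val⁆ = ⁅u, w⁆ ^ d.val := by
    rw [← commutatorElement_inv, PGroups.commutatorElement_pow_left_of_central _ _ (hcz w u),
      ← inv_pow, commutatorElement_inv]
  rw [e3, ← pow_mul, mul_comm]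

end Cfsg.Agent.Lib.Resistant67
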