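import Cfsg.Agent.Lib.Resistant67.CaseSmall
import Cfsg.Agent.Lib.Resistant67.Cube
import Cfsg.Agent.Lib.Tech42.QdRankTwo.Cyclic

/-!
# Subgroups containing all `p³` elements of order dividing `p`

`E`, the elements of `S` of order dividing `p`, is nonabelian of order `p³`.  An automiser of a fully
normalised `P = E C_S(E)` has no triangular element with upper corner of square different from `1`, and
no essential subgroup contains `E`.
-/

set_option autoImplicit false
set_option linter.style.haveILetI false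
set_option linter.unusedSectionVars false

namespace Cfsg.Agent.Lib.Resistant67

open Cfsg Cfsg.FusionSystem Cfsg.Agent.Lib Cfsg.Agent.Lib.FS Cfsg.Agent.Lib.PGroupTheory Plane
open scoped commutatorElement

/-- Restriction of automorphisms to the subgroup of elements killed by `p`. -/
def resOmega {G : Type*} [Group G] {p : ℕ} (O : Subgroup G) (hO : ∀ x, x ∈ O ↔ x ^ p = 1) :
    MulAut G →* MulAut O where
  toFun θ :=
    { toFun := fun x => ⟨θ x, (hO _).2 (by rw [← map_pow, (hO _).1 x.2, map_one])⟩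
      invFun := fun x => ⟨θ.symm x, (hO _).2 (by rw [← map_pow, (hO _).1 x.2, map_one])⟩
      left_inv := fun x => Subtype.ext (θ.symm_apply_apply _)
      right_inv := fun x => Subtype.ext (θ.apply_symm_apply _)
      map_mul' := fun x y => Subtype.ext (map_mul θ (x : G) y) }
  map_one' := MulEquiv.ext fun _ => rfl
  map_mul' := fun _ _ => MulEquiv.ext fun _ => rfl

@[simp] theorem resOmega_coe {G : Type*} [Group G] {p : ℕ} (O : Subgroup G) (hO : ∀ x, x ∈ O ↔ x ^ p = 1)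
    (θ : MulAut G) (x : O) : ((resOmega O hO θ x : O) : G) = θ x := rfl

variable {Ω : Type*} [Group Ω] {S : Subgroup Ω} [Finite S] {p : ℕ} [Fact p.Prime] {F : FusionSystem S}
  {E P : Subgroup Ω}

/-- The setting: `E` consists of the elements of `S` killed by `p`, nonabelian of order `p³`. -/
structure OmegaCube (p : ℕ) (S E : Subgroup Ω) : Prop where
  isPGroup : IsPGroup p S
  regular : ∀ Q : Subgroup Ω, Q ≤ S → IsRegularPGroup p Q
  mem : ∀ x, x ∈ E ↔ x ∈ S ∧ x ^ p = 1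
  card : Nat.card E = p ^ 3
  noncomm : ∃ a ∈ E, ∃ b ∈ E, a * b ≠ b * a

namespace OmegaCube

variable (h : OmegaCube p S E)
include h

theorem le : E ≤ S := fun _ hx => ((h.mem _).1 hx).1

/-- `g = h c` with `h ∈ E` and `c` centralising `E`. -/
def InEC (S E : Subgroup Ω) (g : Ω) : Prop := ∃ x ∈ E, x⁻¹ * g ∈ centralizerIn S E

theorem commute_pow {g e : Ω} (hg : g ∈ S) (he : e ∈ E) : Commute (g ^ p) e := by
  have hR := (isRegularPGroup_iff.1 (h.regular S le_rfl)).2 1
  let a : S := ⟨g, hg⟩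
  let b : S := ⟨e, h.le he⟩
  have h1 : (a⁻¹ * (b * a * b⁻¹)) ^ p ^ 1 = 1 := by
    have h0 : (a⁻¹ * b * a) ^ p = 1 := Subtype.ext (by
      simp only [Subgroup.coe_pow, Subgroup.coe_mul, Subgroup.coe_inv, Subgroup.coe_one, a, b]
      rw [show (g⁻¹ * e * g) ^ p = g⁻¹ * e ^ p * g by
        simpa using conj_pow (a := g⁻¹) (b := e) (i := p), ((h.mem e).1 he).2]
      group)
    have hb : (b⁻¹) ^ p = 1 := Subtype.ext (by
      simp only [Subgroup.coe_pow, Subgroup.coe_inv, Subgroup.coe_one, b]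
      rw [inv_pow, ((h.mem e).1 he).2, inv_one])
    have := pow_mul_eq_one h.isPGroup hR (a := a⁻¹ * b * a) (b := b⁻¹) (by rwa [pow_one]) (by rwa [pow_one])
    simpa [mul_assoc] using this
  have h2 := (pow_eq_pow_iff h.isPGroup hR).2 h1
  rw [pow_one, conj_pow] at h2
  have h3 : a ^ p * b = b * a ^ p := eq_mul_inv_iff_mul_eq.1 h2
  exact congrArg Subtype.val h3

theorem pow_mem_centralizer {g : Ω} (hg : g ∈ S) : g ^ p ∈ centralizerIn S E :=
  ⟨S.pow_mem hg p, Subgroup.mem_centralizer_iff.2 fun _ he => (h.commute_pow hg he).symm.eq⟩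

theorem card_center : Nat.card (Subgroup.center E) = p := by
  obtain ⟨a, ha, b, hb, hab⟩ := h.noncomm
  haveI := finite_sub h.le
  exact (card_center_of_cube h.card
    ⟨⟨a, ha⟩, ⟨b, hb⟩, fun e => hab (congrArg Subtype.val e)⟩).1

theorem isCyclic_centralizer (hp2 : p ≠ 2) : IsCyclic (centralizerIn S E) := by
  haveI := finite_sub (centralizerIn_le E : centralizerIn S E ≤ S)
  haveI := finite_sub h.le
  refine Tech42.QdRankTwo.isCyclic_of_unique hp2 (isPGroup_of_le h.isPGroup (centralizerIn_le E)) ?_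
  intro x y hx hy hx1
  have key : ∀ c : centralizerIn S E, c ^ p = 1 →
      ∃ hc : (c : Ω) ∈ E, (⟨c, hc⟩ : E) ∈ Subgroup.center E := fun c hc => by
    have hcE : (c : Ω) ∈ E := (h.mem _).2 ⟨c.2.1, by rw [← Subgroup.coe_pow, hc, Subgroup.coe_one]⟩
    exact ⟨hcE, Subgroup.mem_center_iff.2 fun e => Subtype.ext (Subgroup.mem_centralizer_iff.1 c.2.2 e e.2)⟩
  obtain ⟨hxE, hxZ⟩ := key x hx
  obtain ⟨hyE, hyZ⟩ := key y hy
  have hord : orderOf (⟨⟨x, hxE⟩, hxZ⟩ : Subgroup.center E) = p := by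
    refine orderOf_eq_prime (Subtype.ext (Subtype.ext ?_)) fun e => hx1 (Subtype.ext ?_)
    · simpa using congrArg Subtype.val hx
    · simpa using congrArg (fun z : Subgroup.center E => ((z : E) : Ω)) e
  have htop : Subgroup.zpowers (⟨⟨x, hxE⟩, hxZ⟩ : Subgroup.center E) = ⊤ :=
    Subgroup.eq_top_of_card_eq _ (by rw [Nat.card_zpowers, hord, h.card_center])
  obtain ⟨n, hn⟩ : (⟨⟨y, hyE⟩, hyZ⟩ : Subgroup.center E) ∈ Subgroup.zpowers _ := htop ▸ Subgroup.mem_top _
  refine ⟨n, Subtype.ext ?_⟩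
  simpa using congrArg (fun z : Subgroup.center E => ((z : E) : Ω)) hn

/-- The centraliser of `E` is generated by `g ^ p` for any `g ∉ E C_S(E)`. -/
theorem centralizer_le_zpowers (hp2 : p ≠ 2) {g : Ω} (hg : g ∈ S) (hgEC : ¬ InEC S E g) :
    centralizerIn S E ≤ Subgroup.zpowers (g ^ p) := by
  haveI := finite_sub (centralizerIn_le E : centralizerIn S E ≤ S)
  haveI := h.isCyclic_centralizer hp2
  obtain ⟨d, hd⟩ := IsCyclic.exists_generator (α := centralizerIn S E)
  obtain ⟨k, hk⟩ := Subgroup.mem_zpowers_iff.1 (hd ⟨g ^ p, h.pow_mem_centralizer hg⟩)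
  obtain ⟨n, hn⟩ := isPGroup_of_le h.isPGroup (centralizerIn_le E) d
  have hk' : ¬ (p : ℤ) ∣ k := by
    rintro ⟨l, rfl⟩
    set c := d ^ l with hc
    have hgp : g ^ p = (c : Ω) ^ p := by
      rw [← Subgroup.coe_pow, hc, ← zpow_natCast (d ^ l) p, ← zpow_mul, mul_comm l, hk]
    let a : S := ⟨g, hg⟩
    let b : S := ⟨(c : Ω)⁻¹, S.inv_mem c.2.1⟩
    have hcm : Commute (a ^ p) b := Subtype.ext (by
      simp only [Subgroup.coe_mul, Subgroup.coe_pow, a, b]
      rw [hgp]
      exact ((Commute.refl (c : Ω)).pow_left p).inv_right.eq)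
    have := mul_pow_of_commute h.isPGroup ((isRegularPGroup_iff.1 (h.regular S le_rfl)).2 1) hcm
    have hp' : (g * (c : Ω)⁻¹) ^ p = 1 := by
      have := congrArg Subtype.val this
      simp only [Subgroup.coe_mul, Subgroup.coe_pow, a, b] at this
      rw [this, hgp, inv_pow, mul_inv_cancel]
    exact hgEC ⟨g * (c : Ω)⁻¹, (h.mem _).2 ⟨S.mul_mem hg (S.inv_mem c.2.1), hp'⟩, by simp⟩
  have hcop : IsCoprime k (p : ℤ) := by
    rw [Int.isCoprime_iff_gcd_eq_one, Int.gcd, Int.natAbs_natCast]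
    exact Nat.Coprime.symm ((Fact.out : p.Prime).coprime_iff_not_dvd.2 fun hh => hk' (Int.natCast_dvd.2 hh))
  obtain ⟨u, v, huv⟩ : IsCoprime k ((p : ℤ) ^ n) := hcop.pow_right
  intro x hx
  obtain ⟨m, hm⟩ := Subgroup.mem_zpowers_iff.1 (hd ⟨x, hx⟩)
  have hdk : d ^ (k * (u * m)) = d ^ m := by
    rw [show k * (u * m) = m + (p : ℤ) ^ n * (-(v * m)) by linear_combination m * huv, zpow_add, zpow_mul,
      show ((p : ℤ) ^ n) = ((p ^ n : ℕ) : ℤ) by push_cast; rfl, zpow_natCast, hn, one_zpow, mul_one]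
  rw [zpow_mul, hk, hm] at hdk
  exact ⟨u * m, by simpa using congrArg Subtype.val hdk⟩

section InP

variable (hPS : P ≤ S) (hEP : E ≤ P)
include hPS hEP

theorem mem_subgroupOf_iff (x : P) : x ∈ E.subgroupOf P ↔ x ^ p = 1 := by
  rw [Subgroup.mem_subgroupOf, h.mem, ← Subgroup.coe_pow, OneMemClass.coe_eq_one]
  exact ⟨fun hh => hh.2, fun hh => ⟨hPS x.2, hh⟩⟩

theorem card_subgroupOf : Nat.card (E.subgroupOf P) = p ^ 3 := by
  rw [← h.card]; exact Nat.card_congr (Subgroup.subgroupOfEquivOfLe hEP).toEquiv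

theorem noncomm_subgroupOf : ∃ a b : E.subgroupOf P, a * b ≠ b * a := by
  obtain ⟨a, ha, b, hb, hab⟩ := h.noncomm
  exact ⟨⟨⟨a, hEP ha⟩, Subgroup.mem_subgroupOf.2 ha⟩, ⟨⟨b, hEP hb⟩, Subgroup.mem_subgroupOf.2 hb⟩,
    fun e => hab (congrArg (fun z : E.subgroupOf P => ((z : P) : Ω)) e)⟩

variable (F) in
/-- The action of the automiser on `E`. -/
def rho : F.autGroup P →* MulAut (E.subgroupOf P) :=
  (resOmega (E.subgroupOf P) (h.mem_subgroupOf_iff hPS hEP)).comp (F.autGroup P).subtype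

theorem rho_conjN_coe (g : normalizerIn S P) (e : E.subgroupOf P) :
    (((h.rho F hPS hEP (conjN F hPS g) e : E.subgroupOf P) : P) : Ω) = g * ((e : P) : Ω) * (g : Ω)⁻¹ := rfl

/-- Coordinates on `E / Z(E)` in which a given element outside `E C_S(E)` is a transvection. -/
theorem exists_coords_of_not_inEC {t : normalizerIn S P} (htEC : ¬ InEC S E (t : Ω)) :
    ∃ f : E.subgroupOf P → ZMod p × ZMod p, Coords f ∧ (∀ x, f x = 0 ↔ x ∈ Subgroup.center _) ∧
      Has f (h.rho F hPS hEP (conjN F hPS t)) 1 0 1 1 := by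
  haveI := finite_sub hPS
  have hc := h.card_subgroupOf hPS hEP
  have hne := h.noncomm_subgroupOf hPS hEP
  have hidx := (card_center_of_cube hc hne).2
  set θ := h.rho F hPS hEP (conjN F hPS t) with hθ
  have hpow : ∀ x : E.subgroupOf P, x ^ p ∈ Subgroup.center (E.subgroupOf P) := fun x => by
    rw [show x ^ p = 1 from Subtype.ext ((h.mem_subgroupOf_iff hPS hEP _).1 x.2)]
    exact one_mem _
  have hθp : ∃ n, θ ^ p ^ n = 1 := by
    obtain ⟨n, hn⟩ := (isPGroup_of_le h.isPGroup (normalizerIn_le P)) t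
    exact ⟨n, by rw [hθ, ← map_pow, ← map_pow, hn, map_one, map_one]⟩
  have hθK : ∀ x ∈ Subgroup.center (E.subgroupOf P), θ x ∈ Subgroup.center (E.subgroupOf P) := fun x hx =>
    Subgroup.characteristic_iff_le_comap.1 inferInstance θ hx
  by_cases hmove : ∃ u, u⁻¹ * θ u ∉ Subgroup.center (E.subgroupOf P)
  · obtain ⟨u, hu⟩ := hmove
    exact Plane.exists_coords _ hidx hpow θ hθK hθp hu
  · push Not at hmove
    -- otherwise `t` would act as an inner automorphism of `E`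
    exfalso
    obtain ⟨u, w, huw⟩ := hne
    have : ∃ x : E.subgroupOf P, θ = MulAut.conj x := by
      obtain ⟨f, hf, hfK⟩ := exists_coords_of_elementary _ hidx hpow
      refine exists_inner hc ⟨u, w, huw⟩ hf hfK fun e => ?_
      have e0 := (hfK _).2 (hmove e)
      rw [hf.add, hf.inv, neg_add_eq_zero] at e0
      rw [← e0]; simp
    obtain ⟨x, hx⟩ := this
    refine htEC ⟨((x : P) : Ω), Subgroup.mem_subgroupOf.1 x.2, mem_centralizerIn'.2
      ⟨S.mul_mem (S.inv_mem (hPS (x : P).2)) t.2.1, fun y hy => ?_⟩⟩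
    have h2 := congrArg (fun φ : MulAut (E.subgroupOf P) =>
      (((φ ⟨⟨y, hEP hy⟩, Subgroup.mem_subgroupOf.2 hy⟩ : E.subgroupOf P) : P) : Ω)) hx
    simp only [hθ, h.rho_conjN_coe, MulAut.conj_apply, Subgroup.coe_mul, Subgroup.coe_inv] at h2
    calc ((x : P) : Ω)⁻¹ * t * y * (((x : P) : Ω)⁻¹ * t)⁻¹
          = ((x : P) : Ω)⁻¹ * ((t : Ω) * y * (t : Ω)⁻¹) * (x : P) := by group
      _ = y := by rw [h2]; group

variable {f : E.subgroupOf P → ZMod p × ZMod p} (hf : Coords f)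
  (hfK : ∀ x, f x = 0 ↔ x ∈ Subgroup.center (E.subgroupOf P))
include hf hfK

theorem rho_inv (γ : F.autGroup P) (x : E.subgroupOf P) (hx : f x = 0) : f (h.rho F hPS hEP γ x) = 0 :=
  (hfK _).2 (Subgroup.characteristic_iff_le_comap.1 inferInstance (h.rho F hPS hEP γ) ((hfK x).1 hx))

/-- An element of `N_S(P)` trivial on `E / Z(E)` is in `E C_S(E)`. -/
theorem inEC_of_trivial {g : normalizerIn S P} (hg : Has f (h.rho F hPS hEP (conjN F hPS g)) 1 0 0 1) :
    InEC S E (g : Ω) := by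
  haveI := finite_sub hPS
  obtain ⟨x, hx⟩ := exists_inner (h.card_subgroupOf hPS hEP) (h.noncomm_subgroupOf hPS hEP) hf hfK hg
  refine ⟨((x : P) : Ω), Subgroup.mem_subgroupOf.1 x.2, mem_centralizerIn'.2
    ⟨S.mul_mem (S.inv_mem (hPS (x : P).2)) g.2.1, fun y hy => ?_⟩⟩
  have h2 := congrArg (fun φ : MulAut (E.subgroupOf P) =>
    (((φ ⟨⟨y, hEP hy⟩, Subgroup.mem_subgroupOf.2 hy⟩ : E.subgroupOf P) : P) : Ω)) hx
  simp only [h.rho_conjN_coe, MulAut.conj_apply, Subgroup.coe_mul, Subgroup.coe_inv] at h2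
  calc ((x : P) : Ω)⁻¹ * g * y * (((x : P) : Ω)⁻¹ * g)⁻¹
        = ((x : P) : Ω)⁻¹ * ((g : Ω) * y * (g : Ω)⁻¹) * (x : P) := by group
    _ = y := by rw [h2]; group

/-- No `p'`-element of the automiser is trivial on `E / Z(E)`. -/
theorem eq_one_of_trivial (hp2 : p ≠ 2) {γ : F.autGroup P} (hco : (orderOf γ).Coprime p)
    (hγ : Has f (h.rho F hPS hEP γ) 1 0 0 1) : γ = 1 := by
  haveI := finite_sub hPS
  obtain ⟨x, hx⟩ := exists_inner (h.card_subgroupOf hPS hEP) (h.noncomm_subgroupOf hPS hEP) hf hfK hγ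
  have h1 : orderOf (h.rho F hPS hEP γ) ∣ orderOf γ := orderOf_map_dvd _ _
  have h2 : orderOf (h.rho F hPS hEP γ) ∣ p := by
    rw [hx]
    refine orderOf_dvd_of_pow_eq_one ?_
    rw [← map_pow, show x ^ p = 1 from Subtype.ext ((h.mem_subgroupOf_iff hPS hEP _).1 x.2), map_one]
  have h3 : h.rho F hPS hEP γ = 1 := orderOf_eq_one_iff.1 (Nat.eq_one_of_dvd_coprimes hco h1 h2)
  refine Subtype.ext (MulEquiv.ext fun y => ?_)
  refine PGroups.fixed_of_fixed_omega hp2 (isPGroup_of_le h.isPGroup hPS) (γ : MulAut P)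
    (by rwa [Subgroup.orderOf_coe]) (fun z hz => ?_) ⊤ (fun _ _ => trivial) y trivial
  exact congrArg (fun φ : MulAut (E.subgroupOf P) =>
    ((φ ⟨z, (h.mem_subgroupOf_iff hPS hEP z).2 hz⟩ : E.subgroupOf P) : P)) h3

/-- A lower triangular element of the automiser of a fully normalised `E C_S(E)` has corner `a` with
`a ^ 2 = 1`. -/
theorem sq_eq_one (hp5 : 5 ≤ p) (hF : F.IsSaturated p) (hfn : F.IsFullyNormalized P)
    (hCP : centralizerIn S E ≤ P) (hP : ∀ y ∈ P, InEC S E y) {t : normalizerIn S P}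
    (ht : Has f (h.rho F hPS hEP (conjN F hPS t)) 1 0 1 1) {γ : F.autGroup P} {a c d : ZMod p}
    (hγ : Has f (h.rho F hPS hEP γ) a 0 c d) : a ^ 2 = 1 := by
  haveI := finite_sub hPS
  have hp2 : p ≠ 2 := by omega
  have hEPC : ∀ g : Ω, InEC S E g → g ∈ P := fun g ⟨e, he, he'⟩ => by
    simpa using P.mul_mem (hEP he) (hCP he')
  obtain ⟨u, hu⟩ := hf.surj (1, 0)
  obtain ⟨w, hw⟩ := hf.surj (0, 1)
  have htEC : ¬ InEC S E (t : Ω) := by
    rintro ⟨e, he, hc⟩
    set e' : E.subgroupOf P := ⟨⟨e, hEP he⟩, Subgroup.mem_subgroupOf.2 he⟩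
    have hconj : h.rho F hPS hEP (conjN F hPS t) u = e' * u * e'⁻¹ := by
      refine Subtype.ext (Subtype.ext ?_)
      rw [h.rho_conjN_coe]
      have hcu := Subgroup.mem_centralizer_iff.1 hc.2 ((u : P) : Ω) (Subgroup.mem_subgroupOf.1 u.2)
      show (t : Ω) * ((u : P) : Ω) * (t : Ω)⁻¹ = e * ((u : P) : Ω) * e⁻¹
      calc (t : Ω) * ((u : P) : Ω) * (t : Ω)⁻¹ = e * (e⁻¹ * t * ((u : P) : Ω)) * (t : Ω)⁻¹ := by group
        _ = e * ((u : P) : Ω) * e⁻¹ := by rw [← hcu]; group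
    have := ht u
    rw [hconj, hf.add, hf.add, hf.inv, hu] at this
    simp at this
  obtain ⟨ψ, -, hψP, r, y, hr, hψt⟩ := exists_extension (h.rho F hPS hEP) h.isPGroup hPS
    (h.rho_inv hPS hEP hf hfK) hf hp5 hF (fun g hco hg => h.eq_one_of_trivial hPS hEP hf hfK hp2 hco hg)
    hfn ht (fun g hg => hEPC _ (h.inEC_of_trivial hPS hEP hf hfK hg)) hγ
  set ι : P →* normalizerIn S P := Subgroup.inclusion (le_normalizerIn hPS) with hι
  have hgen := h.centralizer_le_zpowers hp2 t.2.1 htEC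
  -- `x = t ^ p` generates the centraliser of `E`
  have hxP : (t : Ω) ^ p ∈ P := hCP (h.pow_mem_centralizer t.2.1)
  set x : P := ⟨(t : Ω) ^ p, hxP⟩ with hx
  have hxι : ι x = t ^ p := Subtype.ext (by simp [ι, x])
  obtain ⟨e, he, hec⟩ := hP _ y.2
  obtain ⟨l, hl⟩ := Subgroup.mem_zpowers_iff.1 (hgen hec)
  -- the image of `x`
  have hψx : (γ : MulAut P) x = x ^ ((r : ℤ) + (p : ℤ) * l) := by
    haveI := finite_sub (normalizerIn_le P : normalizerIn S P ≤ S)
    have hNp := isPGroup_of_le h.isPGroup (normalizerIn_le P : normalizerIn S P ≤ S)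
    have hRN := (isRegularPGroup_iff.1 (h.regular (normalizerIn S P) (normalizerIn_le P))).2 1
    refine Subtype.ext ?_
    rw [← hψP x, hxι, map_pow, hψt]
    have hcy : Commute ((t : Ω) ^ p) e := h.commute_pow t.2.1 he
    have hy : (y : Ω) = e * ((t : Ω) ^ p) ^ l := by rw [hl]; group
    have hcm : Commute ((t ^ r) ^ p) (ι y) := Subtype.ext (by
      show (((t : Ω) ^ r) ^ p) * (y : Ω) = (y : Ω) * (((t : Ω) ^ r) ^ p)
      rw [← pow_mul, mul_comm r, pow_mul, hy]
      exact ((hcy.pow_left r).mul_right (((Commute.refl ((t : Ω) ^ p)).zpow_right l).pow_left r)).eq)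
    rw [mul_pow_of_commute hNp hRN hcm]
    show ((t : Ω) ^ r) ^ p * (y : Ω) ^ p = ((x ^ ((r : ℤ) + (p : ℤ) * l) : P) : Ω)
    rw [hy, (hcy.symm.zpow_right l).mul_pow, ((h.mem e).1 he).2, one_mul, Subgroup.coe_zpow, zpow_add,
      zpow_natCast, mul_comm (p : ℤ) l, zpow_mul, zpow_natCast, ← pow_mul, mul_comm r, pow_mul]
  -- the centre of `E`
  set z : E.subgroupOf P := ⁅u, w⁆ with hz
  have hzc : ((z : P) : Ω) ∈ centralizerIn S E := by
    refine ⟨hPS (z : P).2, Subgroup.mem_centralizer_iff.2 fun v hv => ?_⟩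
    exact congrArg (fun q : E.subgroupOf P => ((q : P) : Ω))
      (Subgroup.mem_center_iff.1 (commutatorElement_mem_center_of_cube (h.card_subgroupOf hPS hEP)
        (h.noncomm_subgroupOf hPS hEP) u w) ⟨⟨v, hEP hv⟩, Subgroup.mem_subgroupOf.2 hv⟩)
  obtain ⟨m, hm⟩ := Subgroup.mem_zpowers_iff.1 (hgen hzc)
  have hxm : x ^ m = (z : P) := Subtype.ext (by rw [Subgroup.coe_zpow]; exact hm)
  have hγz := congrArg (fun q : E.subgroupOf P => (q : P))
    (apply_commutator_basis (h.card_subgroupOf hPS hEP) (h.noncomm_subgroupOf hPS hEP) hf hfK hγ hu hw)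
  rw [← hz, Subgroup.coe_pow] at hγz
  change (γ : MulAut P) (z : P) = (z : P) ^ (a.val * d.val) at hγz
  rw [← hxm, map_zpow, hψx, ← zpow_mul, mul_comm, zpow_mul, hxm, ← zpow_natCast] at hγz
  have hzp : (z : P) ^ p = 1 := (h.mem_subgroupOf_iff hPS hEP _).1 z.2
  have hzo : orderOf (z : P) = p := orderOf_eq_prime hzp fun e =>
    commutator_basis_ne_one (h.card_subgroupOf hPS hEP) (h.noncomm_subgroupOf hPS hEP) hf hfK hu hw
      (Subtype.ext e)
  rw [zpow_eq_zpow_iff_modEq, hzo, ← ZMod.intCast_eq_intCast_iff] at hγz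
  push_cast [ZMod.natCast_zmod_val, ZMod.natCast_self] at hγz
  have hd : d ≠ 0 := fun hd0 => by
    obtain ⟨a', b', c', d', hi⟩ := exists_has hf (h.rho F hPS hEP γ⁻¹) (h.rho_inv hPS hEP hf hfK _)
    obtain ⟨e1, e2, -, e4⟩ := InR.mul_inv hf hγ hi
    have ha : a ≠ 0 := fun h' => by simp [h'] at e1
    have hb' : b' = 0 := by simpa [ha] using e2
    simp [hd0, hb'] at e4
  refine mul_right_cancel₀ hd ?_
  rw [one_mul]
  linear_combination hr - a * hγz

end InP

/-- No essential subgroup contains `E`. -/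
theorem false_of_le (hp5 : 5 ≤ p) (hF : F.IsSaturated p) (hess : F.IsEssential p P) (hEP : E ≤ P) :
    False := by
  have hPS : P ≤ S := hess.2.1.1
  haveI := finite_sub hPS
  have hPp := isPGroup_of_le h.isPGroup hPS
  have hp2 : p ≠ 2 := by omega
  have hC := hess.1.2 P (isConj_refl F hPS)
  by_cases hall : ∀ y ∈ P, InEC S E y
  · -- `P = E C_S(E)`
    have hCP : centralizerIn S E ≤ P := fun g hg => hC (mem_centralizerIn'.2 ⟨hg.1, fun y hy => by
      obtain ⟨e, he, hc⟩ := hall y hy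
      haveI := h.isCyclic_centralizer hp2
      obtain ⟨d, hd⟩ := IsCyclic.exists_generator (α := centralizerIn S E)
      obtain ⟨i, hi⟩ := Subgroup.mem_zpowers_iff.1 (hd ⟨g, hg⟩)
      obtain ⟨j, hj⟩ := Subgroup.mem_zpowers_iff.1 (hd ⟨_, hc⟩)
      have h1 : Commute g (e⁻¹ * y) := by
        have := congrArg Subtype.val (Commute.zpow_zpow (Commute.refl d) i j).eq
        rw [Subgroup.coe_mul, Subgroup.coe_mul, hi, hj] at this
        exact this
      have h2 : Commute g e := (Subgroup.mem_centralizer_iff.1 hg.2 e he).symm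
      have h3 := h2.mul_right h1
      rw [mul_inv_cancel_left] at h3
      rw [h3.eq, mul_inv_cancel_right]⟩)
    have hEPC : ∀ g : Ω, InEC S E g → g ∈ P := fun g ⟨e, he, he'⟩ => by
      simpa using P.mul_mem (hEP he) (hCP he')
    obtain ⟨t, htP⟩ := exists_normalizer_not_mem h.isPGroup hF hess
    obtain ⟨f, hf, hfK, ht⟩ := h.exists_coords_of_not_inEC (F := F) hPS hEP (fun e => htP (hEPC _ e))
    obtain ⟨δ, hδ⟩ := exists_diag_of_essential (h.rho F hPS hEP) h.isPGroup hPS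
      (h.rho_inv hPS hEP hf hfK) hf hp5 hF
      (fun g hco hg => h.eq_one_of_trivial hPS hEP hf hfK hp2 hco hg) hess ht htP
    exact sq_two_ne_one hp5 (h.sq_eq_one hPS hEP hf hfK hp5 hF hess.2.1 hCP hall ht hδ)
  · -- some element of `P` moves `E / Z(E)`
    push Not at hall
    obtain ⟨x, hxP, hxEC⟩ := hall
    have hgen := h.centralizer_le_zpowers hp2 (hPS hxP) hxEC
    set x₀ : P := ⟨x, hxP⟩
    set t : normalizerIn S P := Subgroup.inclusion (le_normalizerIn hPS) x₀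
    obtain ⟨f, hf, hfK, ht⟩ := h.exists_coords_of_not_inEC (F := F) hPS hEP (t := t) hxEC
    have hcenter : ∀ g : Ω, g ∈ centralizerIn S E → g ∈ P := fun g hg =>
      Subgroup.zpowers_le.2 (P.pow_mem hxP p) (hgen hg)
    have hCΦ : ∀ (g : P), (g : Ω) ∈ centralizerIn S E → g ∈ frattini P := fun g hg => by
      obtain ⟨i, hi⟩ := Subgroup.mem_zpowers_iff.1 (hgen hg)
      rw [show g = (x₀ ^ p) ^ i from Subtype.ext (by rw [← hi]; simp [x₀])]
      exact zpow_mem (PGroups.pow_mem_frattini hPp x₀) i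
    set M := (E.subgroupOf P) ⊔ frattini P
    have hM : ∀ γ ∈ F.autGroup P, ∀ y ∈ M, γ y ∈ M := fun γ _ y hy => by
      have : M ≤ M.comap γ.toMonoidHom := sup_le
        (fun z hz => Subgroup.mem_sup_left ((h.mem_subgroupOf_iff hPS hEP _).2 (by
          show γ z ^ p = 1
          rw [← map_pow, (h.mem_subgroupOf_iff hPS hEP z).1 hz, map_one])))
        (fun z hz => Subgroup.mem_sup_right (aut_mem_frattini γ hz))
      exact this hy
    have hv : Subgroup.zpowers x₀ ⊔ M = ⊤ := eq_top_iff.2 fun y _ => by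
      obtain ⟨k, hk⟩ := unitriangular_conjN (h.rho F hPS hEP) h.isPGroup hPS (h.rho_inv hPS hEP hf hfK)
        hf hp5 ht (Subgroup.inclusion (le_normalizerIn hPS) y)
      obtain ⟨c', hc', hcc⟩ := ht.pow_lower (-k).val
      rw [← map_pow, ← map_pow] at hc'
      have h1 := hc'.mul hk
      rw [← map_mul, ← map_mul] at h1
      obtain ⟨e, he, hc⟩ := h.inEC_of_trivial hPS hEP hf hfK (h1.congr (by simp) (by simp)
        (by rw [hcc rfl rfl, ZMod.natCast_zmod_val]; simp) (by simp))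
      set j := (-k).val
      have hcP : e⁻¹ * (((t ^ j * Subgroup.inclusion (le_normalizerIn hPS) y : normalizerIn S P)) : Ω) ∈ P :=
        hcenter _ hc
      rw [show y = (x₀ ^ j)⁻¹ * ((⟨e, hEP he⟩ : P) * ⟨_, hcP⟩) from Subtype.ext (by
        simp [x₀, t])]
      refine Subgroup.mul_mem_sup (inv_mem (pow_mem (Subgroup.mem_zpowers _) _)) ?_
      exact Subgroup.mul_mem_sup (Subgroup.mem_subgroupOf.2 he) (hCΦ _ hc)
    obtain ⟨u, hu⟩ := hf.surj (1, 0)
    have hcube := h.card_subgroupOf hPS hEP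
    have hne := h.noncomm_subgroupOf hPS hEP
    set w : (E.subgroupOf P) := h.rho F hPS hEP (conjN F hPS t) u * u⁻¹ with hwdef
    have hw : f w = (0, 1) := by rw [hwdef, hf.add, hf.inv, ht u, hu]; simp
    have hwΦ : (w : P) ∈ frattini P := by
      rw [show (w : P) = ⁅x₀, (u : P)⁆ from Subtype.ext (by
        simp [w, t, x₀, h.rho_conjN_coe, commutatorElement_def, mul_assoc])]
      exact PGroups.commutatorElement_mem_frattini hPp _ _
    have hMu : M ≤ Subgroup.zpowers (u : P) ⊔ frattini P := sup_le (fun y hy => by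
      obtain ⟨ζ, hζ, he⟩ := exists_decomp hcube hne hf hfK hu hw ⟨y, hy⟩
      rw [center_eq_zpowers hcube hne hf hfK hu hw] at hζ
      obtain ⟨n, rfl⟩ := hζ
      rw [show y = (u : P) ^ (f ⟨y, hy⟩).1.val * ((w : P) ^ (f ⟨y, hy⟩).2.val * ⁅(u : P), (w : P)⁆ ^ n) by
        rw [← mul_assoc]
        exact congrArg Subtype.val he]
      exact Subgroup.mul_mem_sup (pow_mem (Subgroup.mem_zpowers _) _)
        (mul_mem (pow_mem hwΦ _) (zpow_mem (PGroups.commutatorElement_mem_frattini hPp _ _) _)))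
      le_sup_right
    exact false_of_step h.isPGroup hF hess M le_sup_right hM hv
      (Subgroup.mem_sup_left (u.2 : (u : P) ∈ (E.subgroupOf P))) hMu

end OmegaCube

end Cfsg.Agent.Lib.Resistant67
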