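import Mathlib

/-!
# Actions on a section of order `p²`

A group `A` acts on a group `E` through `ρ`, and `f : E → ZMod p × ZMod p` is an additive surjection
whose kernel is invariant.  Then every element of `A` has a matrix, and if one acts as a transvection
and another one moves its fixed line, some element acts as `diag (2, 1/2)` up to the lower corner.
-/

set_option autoImplicit false
set_option linter.style.haveILetI false

namespace Cfsg.Agent.Lib.Resistant67.Plane

variable {p : ℕ} {E : Type*} [Group E]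

/-- `θ` acts through the matrix `(a b; c d)` in the coordinates `f`. -/
def Has (f : E → ZMod p × ZMod p) (θ : MulAut E) (a b c d : ZMod p) : Prop :=
  ∀ x, f (θ x) = (a * (f x).1 + b * (f x).2, c * (f x).1 + d * (f x).2)

/-- Additive surjective coordinates. -/
structure Coords (f : E → ZMod p × ZMod p) : Prop where
  add : ∀ x y, f (x * y) = f x + f y
  surj : Function.Surjective f

variable {f : E → ZMod p × ZMod p}

theorem Coords.one (hf : Coords f) : f 1 = 0 := by
  simpa using hf.add 1 1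

theorem Coords.inv (hf : Coords f) (x : E) : f x⁻¹ = -f x := by
  have h := hf.add x⁻¹ x
  rw [inv_mul_cancel, hf.one] at h
  exact eq_neg_of_add_eq_zero_left h.symm

theorem Coords.pow (hf : Coords f) (x : E) (n : ℕ) : f (x ^ n) = (n : ZMod p) • f x := by
  induction n with
  | zero => simp [hf.one]
  | succ n ih => rw [pow_succ, hf.add, ih, Nat.cast_succ, add_smul, one_smul]

theorem Has.one : Has f 1 1 0 0 1 := fun x => by simp

theorem Has.mul {θ η : MulAut E} {a b c d a' b' c' d' : ZMod p} (h : Has f θ a b c d)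
    (h' : Has f η a' b' c' d') :
    Has f (θ * η) (a * a' + b * c') (a * b' + b * d') (c * a' + d * c') (c * b' + d * d') := by
  intro x
  rw [MulAut.mul_apply, h, h']
  ext <;> dsimp only <;> ring

theorem Has.unique (hf : Coords f) {θ : MulAut E} {a b c d a' b' c' d' : ZMod p} (h : Has f θ a b c d)
    (h' : Has f θ a' b' c' d') : a = a' ∧ b = b' ∧ c = c' ∧ d = d' := by
  obtain ⟨u, hu⟩ := hf.surj (1, 0)
  obtain ⟨w, hw⟩ := hf.surj (0, 1)
  have h1 := (h u).symm.trans (h' u)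
  have h2 := (h w).symm.trans (h' w)
  simp only [hu, mul_one, mul_zero, add_zero, Prod.mk.injEq] at h1
  simp only [hw, mul_one, mul_zero, zero_add, Prod.mk.injEq] at h2
  exact ⟨h1.1, h2.1, h1.2, h2.2⟩

theorem Has.congr {θ : MulAut E} {a b c d a' b' c' d' : ZMod p} (h : Has f θ a b c d)
    (ha : a = a') (hb : b = b') (hc : c = c') (hd : d = d') : Has f θ a' b' c' d' := by
  subst ha hb hc hd; exact h

theorem Has.pow_lower {θ : MulAut E} {a c d : ZMod p} (h : Has f θ a 0 c d) :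
    ∀ n : ℕ, ∃ c', Has f (θ ^ n) (a ^ n) 0 c' (d ^ n) ∧ (a = 1 → d = 1 → c' = n * c) := by
  intro n
  induction n with
  | zero => exact ⟨0, by simpa using Has.one, fun _ _ => by simp⟩
  | succ n ih =>
    obtain ⟨c', hc, hc'⟩ := ih
    refine ⟨c' * a + d ^ n * c, ?_, fun ha hd => ?_⟩
    · rw [pow_succ]
      exact (hc.mul h).congr (by ring) (by ring) rfl (by ring)
    · rw [hc' ha hd, ha, hd]; push_cast; ring

variable [hp : Fact p.Prime]

theorem exists_has (hf : Coords f) (θ : MulAut E) (hθ : ∀ x, f x = 0 → f (θ x) = 0) :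
    ∃ a b c d, Has f θ a b c d := by
  obtain ⟨u, hu⟩ := hf.surj (1, 0)
  obtain ⟨w, hw⟩ := hf.surj (0, 1)
  refine ⟨(f (θ u)).1, (f (θ w)).1, (f (θ u)).2, (f (θ w)).2, fun x => ?_⟩
  set v := u ^ (f x).1.val * w ^ (f x).2.val with hv
  have hv' : f v = f x := by
    rw [hv, hf.add, hf.pow, hf.pow, hu, hw]
    simp
  have h0 : f (θ (x * v⁻¹)) = 0 := hθ _ (by rw [hf.add, hf.inv, hv', add_neg_cancel])
  rw [map_mul, map_inv, hf.add, hf.inv, add_neg_eq_zero] at h0
  rw [h0, hv, map_mul, map_pow, map_pow, hf.add, hf.pow, hf.pow]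
  ext <;> simp [mul_comm]

section Group

variable {A : Type*} [Group A] (ρ : A →* MulAut E)

/-- The matrices realised by `A`. -/
def InR (f : E → ZMod p × ZMod p) (a b c d : ZMod p) : Prop := ∃ γ, Has f (ρ γ) a b c d

variable {ρ} in
theorem InR.mul {a b c d a' b' c' d' : ZMod p} (h : InR ρ f a b c d) (h' : InR ρ f a' b' c' d') :
    InR ρ f (a * a' + b * c') (a * b' + b * d') (c * a' + d * c') (c * b' + d * d') := by
  obtain ⟨γ, h⟩ := h
  obtain ⟨δ, h'⟩ := h'
  exact ⟨γ * δ, by rw [map_mul]; exact h.mul h'⟩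

variable {ρ} in
theorem InR.congr {a b c d a' b' c' d' : ZMod p} (h : InR ρ f a b c d)
    (ha : a = a') (hb : b = b') (hc : c = c') (hd : d = d') : InR ρ f a' b' c' d' := by
  subst ha hb hc hd; exact h

theorem InR.one : InR ρ f (1 : ZMod p) 0 0 1 := ⟨1, by rw [map_one]; exact Has.one⟩

variable {ρ} in
theorem InR.mul_inv (hf : Coords f) {a b c d a' b' c' d' : ZMod p} {γ : A} (h : Has f (ρ γ) a b c d)
    (h' : Has f (ρ γ⁻¹) a' b' c' d') :
    a * a' + b * c' = 1 ∧ a * b' + b * d' = 0 ∧ c * a' + d * c' = 0 ∧ c * b' + d * d' = 1 := by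
  have := h.mul h'
  rw [← map_mul, mul_inv_cancel, map_one] at this
  exact this.unique hf Has.one

variable (hinv : ∀ γ x, f x = 0 → f (ρ γ x) = 0) (hf : Coords f)
include hinv hf

/-- If `(1 0; 1 1)` is realised and some element moves the fixed line, `diag (2, 1/2)` is realised. -/
theorem exists_diag {t : A} (ht : Has f (ρ t) 1 0 1 1) {γ : A} {a b c d : ZMod p}
    (hγ : Has f (ρ γ) a b c d) (hb : b ≠ 0) (h2 : (2 : ZMod p) ≠ 0) :
    ∃ δ, Has f (ρ δ) 2 0 0 2⁻¹ := by
  have hT : InR ρ f 1 0 1 1 := ⟨t, ht⟩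
  have hL : ∀ k : ZMod p, InR ρ f 1 0 k 1 := by
    intro k
    obtain ⟨c', hc, hc'⟩ := ht.pow_lower k.val
    refine ⟨t ^ k.val, ?_⟩
    rw [map_pow]
    exact hc.congr (one_pow _) rfl (by rw [hc' rfl rfl, ZMod.natCast_zmod_val, mul_one]) (one_pow _)
  obtain ⟨γ₁, hγ₁⟩ := (hL (-d / b)).mul ⟨γ, hγ⟩
  have hγ₁' : Has f (ρ γ₁) a b (c + -d / b * a) 0 :=
    hγ₁.congr (by ring) (by ring) (by ring) (by field_simp; ring)
  set c₁ := c + -d / b * a
  obtain ⟨a', b', c', d', hγi⟩ := exists_has hf (ρ γ₁⁻¹) (hinv _)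
  obtain ⟨e1, e2, e3, e4⟩ := InR.mul_inv hf hγ₁' hγi
  simp only [zero_mul, add_zero] at e3 e4
  have hc₁ : c₁ ≠ 0 := fun h => by simp [h] at e4
  have ha' : a' = 0 := by simpa [hc₁] using e3
  have hb' : b' ≠ 0 := fun h => by simp [h] at e4
  have hU0 : InR ρ f 1 (b * b') 0 1 :=
    ((InR.mul (ρ := ρ) ⟨γ₁, hγ₁'⟩ hT).mul ⟨γ₁⁻¹, hγi⟩).congr
      (by rw [ha'] at e1 ⊢; linear_combination e1) (by linear_combination e2)
      (by rw [ha']; ring) (by linear_combination e4)
  obtain ⟨u₀, hu₀⟩ := hU0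
  have hUn : ∀ n : ℕ, InR ρ f 1 (n * (b * b')) 0 1 := by
    intro n
    induction n with
    | zero => exact (InR.one ρ).congr rfl (by simp) rfl rfl
    | succ n ih => exact (ih.mul ⟨u₀, hu₀⟩).congr (by ring) (by push_cast; ring) (by ring) (by ring)
  have hU : ∀ y : ZMod p, InR ρ f 1 y 0 1 := fun y => by
    refine (hUn (y / (b * b')).val).congr rfl ?_ rfl rfl
    rw [ZMod.natCast_zmod_val, div_mul_cancel₀ _ (mul_ne_zero hb hb')]
  have hh : ∀ l : ZMod p, l ≠ 0 → InR ρ f 0 l (-l⁻¹) 0 := fun l hl =>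
    (((hU l).mul (hL (-l⁻¹))).mul (hU l)).congr
      (by field_simp; ring) (by field_simp; ring) (by field_simp; ring) (by field_simp; ring)
  exact ((hh 2 h2).mul (hh (-1) (by simp))).congr
    (by simp) (by simp) (by simp) (by simp)

/-- In a `p`-group of operators containing a transvection all matrices are lower unitriangular. -/
theorem unitriangular_of_isPGroup (hA : IsPGroup p A) (hp3 : (2 : ZMod p) ≠ 0) {t : A}
    (ht : Has f (ρ t) 1 0 1 1) (γ : A) : ∃ c, Has f (ρ γ) 1 0 c 1 := by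
  obtain ⟨a, b, c, d, hγ⟩ := exists_has hf (ρ γ) (hinv γ)
  have key : ∀ {δ : A} {a c d : ZMod p}, Has f (ρ δ) a 0 c d → a = 1 ∧ d = 1 := by
    intro δ a c d h
    obtain ⟨k, hk⟩ := hA δ
    obtain ⟨c', hc', -⟩ := h.pow_lower (p ^ k)
    rw [← map_pow, hk, map_one, ZMod.pow_card_pow, ZMod.pow_card_pow] at hc'
    obtain ⟨h1, -, -, h4⟩ := hc'.unique hf Has.one
    exact ⟨h1, h4⟩
  have hb : b = 0 := by
    by_contra hb
    obtain ⟨δ, hδ⟩ := exists_diag ρ hinv hf ht hγ hb hp3
    have h1 : (2 : ZMod p) = 1 := (key hδ).1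
    have : (1 : ZMod p) = 0 := by linear_combination h1
    exact one_ne_zero this
  subst hb
  obtain ⟨rfl, rfl⟩ := key hγ
  exact ⟨c, hγ⟩

/-- The elements acting as lower unitriangular matrices. -/
def lowerUni : Subgroup A where
  carrier := {γ | ∃ c, Has f (ρ γ) 1 0 c 1}
  one_mem' := ⟨0, by rw [map_one]; exact Has.one⟩
  mul_mem' := by
    rintro γ δ ⟨c, hc⟩ ⟨c', hc'⟩
    exact ⟨c + c', by rw [map_mul]; exact (hc.mul hc').congr (by ring) (by ring) (by ring) (by ring)⟩
  inv_mem' := fun {γ} hγm => by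
    obtain ⟨c, hc⟩ := hγm
    obtain ⟨a', b', c', d', hi⟩ := exists_has hf (ρ γ⁻¹) (hinv _)
    obtain ⟨e1, e2, e3, e4⟩ := InR.mul_inv hf hc hi
    simp only [one_mul, zero_mul, add_zero] at e1 e2
    exact ⟨c', hi.congr e1 e2 rfl (by rw [e2] at e4; simpa using e4)⟩

theorem mem_lowerUni {γ : A} : γ ∈ lowerUni ρ hinv hf ↔ ∃ c, Has f (ρ γ) 1 0 c 1 := Iff.rfl

/-- When the kernel has no `p'`-elements the lower unitriangular elements form a `p`-group. -/
theorem isPGroup_lowerUni [Finite A]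
    (hker : ∀ γ, (orderOf γ).Coprime p → Has f (ρ γ) 1 0 0 1 → γ = 1) :
    IsPGroup p (lowerUni ρ hinv hf) := by
  rw [IsPGroup.iff_orderOf]
  rintro ⟨γ, c, hγ⟩
  rw [← Subgroup.orderOf_coe]
  show ∃ k, orderOf γ = p ^ k
  obtain ⟨k, m, hm, hkm⟩ := Nat.exists_eq_pow_mul_and_not_dvd (orderOf_pos γ).ne' p hp.out.ne_one
  refine ⟨k, ?_⟩
  have hb : orderOf (γ ^ p ^ k) = m := by
    rw [orderOf_pow_of_dvd (pow_ne_zero _ hp.out.ne_zero) (hkm ▸ dvd_mul_right _ _), hkm,
      Nat.mul_div_cancel_left _ (Nat.pow_pos hp.out.pos)]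
  obtain ⟨c', hc', -⟩ := hγ.pow_lower (p ^ k)
  rw [one_pow, ← map_pow] at hc'
  obtain ⟨c'', hc'', hcc⟩ := hc'.pow_lower m
  rw [one_pow, ← map_pow, ← hb, pow_orderOf_eq_one, map_one] at hc''
  have h0 := (hc''.unique hf Has.one).2.2.1
  rw [hcc rfl rfl] at h0
  have hm0 : (m : ZMod p) ≠ 0 := fun h => hm ((ZMod.natCast_eq_zero_iff m p).1 h)
  have hc0 : c' = 0 := by simpa [hm0] using h0
  subst hc0
  have h1 : γ ^ p ^ k = 1 :=
    hker _ (by rw [hb]; exact (hp.out.coprime_iff_not_dvd.2 hm).symm) hc'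
  rw [h1, orderOf_one] at hb
  rw [hkm, ← hb, mul_one]

/-- When all elements fix the line, the lower unitriangular ones form a normal subgroup. -/
theorem lowerUni_normal (hall : ∀ γ a b c d, Has f (ρ γ) a b c d → b = 0) :
    (lowerUni ρ hinv hf).Normal := by
  refine ⟨fun δ ⟨e, hδ⟩ γ => ?_⟩
  obtain ⟨a, b, c, d, hγ⟩ := exists_has hf (ρ γ) (hinv γ)
  obtain rfl := hall _ _ _ _ _ hγ
  obtain ⟨a', b', c', d', hγi⟩ := exists_has hf (ρ γ⁻¹) (hinv _)
  obtain rfl := hall _ _ _ _ _ hγi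
  obtain ⟨e1, -, -, e4⟩ := InR.mul_inv hf hγ hγi
  have h := (hγ.mul hδ).mul hγi
  rw [← map_mul, ← map_mul] at h
  exact ⟨_, h.congr (by simpa using e1) (by ring) rfl (by linear_combination e4)⟩

end Group

/-- Coordinates adapted to an automorphism of `p`-power order moving a section of order `p²`. -/
theorem exists_coords [Finite E] (K : Subgroup E) [K.Normal] (hK : K.index = p ^ 2)
    (hpow : ∀ x : E, x ^ p ∈ K) (θ : MulAut E) (hθK : ∀ x ∈ K, θ x ∈ K)
    (hθp : ∃ n, θ ^ p ^ n = 1) {u₀ : E} (hmove : u₀⁻¹ * θ u₀ ∉ K) :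
    ∃ f : E → ZMod p × ZMod p, Coords f ∧ (∀ x, f x = 0 ↔ x ∈ K) ∧ Has f θ 1 0 1 1 := by
  have hcard : Nat.card (E ⧸ K) = p ^ 2 := by rw [← Subgroup.index_eq_card, hK]
  letI : CommGroup (E ⧸ K) :=
    { (inferInstance : Group (E ⧸ K)) with
      mul_comm := (IsPGroup.isMulCommutative_of_card_eq_prime_sq (p := p) hcard).is_comm.comm }
  have hexp : ∀ q : Additive (E ⧸ K), p • q = 0 := fun q => by
    obtain ⟨x, hx⟩ := QuotientGroup.mk_surjective (Additive.toMul q)
    show Additive.toMul q ^ p = 1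
    rw [← hx, ← QuotientGroup.mk_pow, QuotientGroup.eq_one_iff]
    exact hpow x
  letI : Module (ZMod p) (Additive (E ⧸ K)) := AddCommGroup.zmodModule (n := p) hexp
  let mk : E →* E ⧸ K := QuotientGroup.mk' K
  let q : E → Additive (E ⧸ K) := fun x => Additive.ofMul (mk x)
  have hq : ∀ x y, q (x * y) = q x + q y := fun x y => by simp only [q, map_mul]; rfl
  have hq0 : ∀ x, q x = 0 ↔ x ∈ K := fun x => QuotientGroup.eq_one_iff x
  let Θ : Additive (E ⧸ K) →ₗ[ZMod p] Additive (E ⧸ K) :=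
    (QuotientGroup.map K K θ.toMonoidHom (fun x hx => hθK x hx)).toAdditive.toZModLinearMap p
  have hΘ : ∀ x, Θ (q x) = q (θ x) := fun x => rfl
  have hΘn : ∀ (n : ℕ) x, (Θ ^ n) (q x) = q ((θ ^ n) x) := by
    intro n
    induction n with
    | zero => intro x; rfl
    | succ n ih => intro x; rw [pow_succ, Module.End.mul_apply, hΘ, ih, pow_succ, MulAut.mul_apply]
  have hqs : Function.Surjective q := fun z => by
    obtain ⟨x, hx⟩ := QuotientGroup.mk_surjective (Additive.toMul z)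
    exact ⟨x, hx⟩
  obtain ⟨n, hn⟩ := hθp
  have hΘp : ∀ z, (Θ ^ p ^ n) z = z := fun z => by
    obtain ⟨x, rfl⟩ := hqs z
    rw [hΘn, hn]; rfl
  -- a basis from a vector and an independent one
  have basis : ∀ u w : Additive (E ⧸ K), w ≠ 0 → Θ w = w → Θ u ≠ u →
      Function.Bijective fun z : ZMod p × ZMod p => z.1 • u + z.2 • w := by
    intro u w hw hΘw hΘu
    have hinj : Function.Injective fun z : ZMod p × ZMod p => z.1 • u + z.2 • w := by
      intro z z' h
      simp only at h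
      have h' : (z.1 - z'.1) • u + (z.2 - z'.2) • w = 0 := by
        rw [sub_smul, sub_smul]
        linear_combination (norm := abel) h
      have h'' := congrArg Θ h'
      rw [map_add, map_smul, map_smul, map_zero, hΘw] at h''
      have h1 : (z.1 - z'.1) • (Θ u - u) = 0 := by
        rw [smul_sub]
        linear_combination (norm := abel) h'' - h'
      rcases smul_eq_zero.1 h1 with h1 | h1
      · rw [h1, zero_smul, zero_add] at h'
        rcases smul_eq_zero.1 h' with h2 | h2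
        · exact Prod.ext (sub_eq_zero.1 h1) (sub_eq_zero.1 h2)
        · exact absurd h2 hw
      · exact absurd (sub_eq_zero.1 h1) hΘu
    refine (Nat.bijective_iff_injective_and_card _).2 ⟨hinj, ?_⟩
    rw [Nat.card_prod, Nat.card_zmod, sq] at *
    exact hcard.symm
  -- a fixed vector
  obtain ⟨w, hw, hΘw⟩ : ∃ w : Additive (E ⧸ K), w ≠ 0 ∧ Θ w = w := by
    by_contra hno
    push Not at hno
    have hinj : Function.Injective (Θ - 1 : Module.End (ZMod p) (Additive (E ⧸ K))) := by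
      refine (injective_iff_map_eq_zero _).2 fun z hz => ?_
      by_contra hz0
      exact hno z hz0 (sub_eq_zero.1 hz)
    haveI : Nontrivial (Additive (E ⧸ K)) :=
      ⟨⟨q (u₀⁻¹ * θ u₀), 0, fun h => hmove ((hq0 _).1 h)⟩⟩
    haveI : CharP (Module.End (ZMod p) (Additive (E ⧸ K))) p := by
      refine charP_of_injective_algebraMap (R := ZMod p) ?_ p
      exact (algebraMap (ZMod p) _).injective
    have hz : (Θ - 1) ^ p ^ n = 0 := by
      rw [sub_pow_char_pow_of_commute _ _ (Commute.one_right Θ), one_pow, sub_eq_zero]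
      exact LinearMap.ext fun z => hΘp z
    have hinj' : ∀ k, Function.Injective ((Θ - 1) ^ k : Module.End (ZMod p) (Additive (E ⧸ K))) := by
      intro k
      induction k with
      | zero => exact fun a b h => h
      | succ k ih => intro a b h; rw [pow_succ] at h; exact hinj (ih h)
    obtain ⟨z, z', hzz⟩ := exists_pair_ne (Additive (E ⧸ K))
    exact hzz (hinj' (p ^ n) (by rw [hz]; rfl))
  set u := q u₀
  have hu : Θ u ≠ u := fun h => hmove <| (hq0 _).1 <| by
    have e : q u₀ + q (u₀⁻¹ * θ u₀) = q u₀ + 0 := by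
      rw [← hq, add_zero, mul_inv_cancel_left]
      exact h
    exact add_left_cancel e
  obtain ⟨⟨i, j⟩, hij⟩ := (basis u w hw hΘw hu).2 (Θ u)
  simp only at hij
  have hiter : ∀ k : ℕ, ∃ l : ZMod p, (Θ ^ k) u = i ^ k • u + l • w := by
    intro k
    induction k with
    | zero => exact ⟨0, by simp⟩
    | succ k ih =>
      obtain ⟨l, hl⟩ := ih
      refine ⟨i ^ k * j + l, ?_⟩
      rw [pow_succ', Module.End.mul_apply, hl, map_add, map_smul, map_smul, hΘw, ← hij, smul_add, smul_smul,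
        smul_smul, ← pow_succ, add_smul]
      abel
  have hi : i = 1 := by
    obtain ⟨l, hl⟩ := hiter (p ^ n)
    rw [hΘp, ZMod.pow_card_pow] at hl
    have h0 := (basis u w hw hΘw hu).1 (a₁ := (1, 0)) (a₂ := (i, l)) (by simpa using hl)
    exact (congrArg Prod.fst h0).symm
  subst hi
  rw [one_smul] at hij
  set w₁ := j • w
  have hw₁ : w₁ ≠ 0 := fun h => hu (by rw [← hij, h, add_zero])
  have hΘw₁ : Θ w₁ = w₁ := by rw [map_smul, hΘw]
  have hb := basis u w₁ hw₁ hΘw₁ hu
  let φ := Equiv.ofBijective _ hb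
  have hφadd : ∀ a b, φ (a + b) = φ a + φ b := fun a b => by
    show (a + b).1 • u + (a + b).2 • w₁ = _
    rw [Prod.fst_add, Prod.snd_add, add_smul, add_smul]
    show _ = (a.1 • u + a.2 • w₁) + (b.1 • u + b.2 • w₁)
    abel
  refine ⟨fun x => φ.symm (q x), ⟨fun x y => ?_, fun z => ?_⟩, fun x => ?_, fun x => ?_⟩
  · apply φ.injective
    simp only [hφadd, Equiv.apply_symm_apply, hq]
  · obtain ⟨x, hx⟩ := hqs (φ z)
    exact ⟨x, by simp only [hx, Equiv.symm_apply_apply]⟩
  · have h0 : φ 0 = 0 := by show (0 : ZMod p) • u + (0 : ZMod p) • w₁ = 0; simp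
    rw [← hq0, Equiv.symm_apply_eq, h0]
  · show φ.symm (q (θ x)) = _
    rw [Equiv.symm_apply_eq, ← hΘ]
    conv_lhs => rw [← φ.apply_symm_apply (q x)]
    show Θ ((φ.symm (q x)).1 • u + (φ.symm (q x)).2 • w₁) = _ • u + _ • w₁
    rw [map_add, map_smul, map_smul, hΘw₁, ← hij]
    simp only [one_mul, zero_mul, add_zero, smul_add, add_smul]
    abel

end Cfsg.Agent.Lib.Resistant67.Plane
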