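import Cfsg.Agent.Lib.Resistant67.Basic
import Cfsg.Agent.Lib.Resistant67.Plane

/-!
# Extending torus elements to the normaliser

`P` is fully normalised and its automiser acts on a section of order `p²` with no `p'`-kernel, on which some
element of `N_S(P)` is a transvection.  A lower triangular element of the automiser extends to `N_S(P)`.
-/

set_option autoImplicit false
set_option linter.style.haveILetI false

namespace Cfsg.Agent.Lib.Resistant67

open Cfsg Cfsg.FusionSystem Cfsg.Agent.Lib Cfsg.Agent.Lib.FS Plane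

variable {Ω : Type*} [Group Ω] {S : Subgroup Ω} [Finite S] {p : ℕ} [Fact p.Prime] {F : FusionSystem S}
  {P : Subgroup Ω} {E : Type*} [Group E] (ρ : F.autGroup P →* MulAut E) {f : E → ZMod p × ZMod p}

theorem two_ne_zero_of (hp5 : 5 ≤ p) : (2 : ZMod p) ≠ 0 := by
  intro h
  have := Nat.le_of_dvd two_pos ((ZMod.natCast_eq_zero_iff 2 p).1 (by exact_mod_cast h))
  omega

theorem sq_two_ne_one (hp5 : 5 ≤ p) : (2 : ZMod p) ^ 2 ≠ 1 := by
  intro h
  have h3 : ((3 : ℕ) : ZMod p) = 0 := by push_cast; linear_combination h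
  have := Nat.le_of_dvd three_pos ((ZMod.natCast_eq_zero_iff 3 p).1 h3)
  omega

variable (hS : IsPGroup p S) (hPS : P ≤ S) (hinv : ∀ γ x, f x = 0 → f (ρ γ x) = 0) (hf : Coords f)
  (hp5 : 5 ≤ p)
include hS hinv hf hp5

omit [Finite S] in
/-- `N_S(P)` acts by lower unitriangular matrices. -/
theorem unitriangular_conjN {t : normalizerIn S P} (ht : Has f (ρ (conjN F hPS t)) 1 0 1 1)
    (g : normalizerIn S P) : ∃ c, Has f (ρ (conjN F hPS g)) 1 0 c 1 :=
  unitriangular_of_isPGroup (ρ.comp (conjN F hPS)) (fun g => hinv _) hf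
    (isPGroup_of_le hS (normalizerIn_le P)) (two_ne_zero_of hp5) ht g

variable (hF : F.IsSaturated p)
  (hker : ∀ γ : F.autGroup P, (orderOf γ).Coprime p → Has f (ρ γ) 1 0 0 1 → γ = 1)
include hF hker

/-- A torus element of the automiser extends to `N_S(P)`. -/
theorem exists_extension (hfn : F.IsFullyNormalized P) {t : normalizerIn S P}
    (ht : Has f (ρ (conjN F hPS t)) 1 0 1 1)
    (hfix : ∀ g : normalizerIn S P, Has f (ρ (conjN F hPS g)) 1 0 0 1 → (g : Ω) ∈ P)
    {γ : F.autGroup P} {a c d : ZMod p} (hγ : Has f (ρ γ) a 0 c d) :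
    ∃ ψ : normalizerIn S P →* normalizerIn S P,
      (normalizerIn S P).subtype.comp ψ ∈ F.Hom (normalizerIn S P) ∧
      (∀ x : P, (ψ (Subgroup.inclusion (le_normalizerIn hPS) x) : Ω) = (γ : MulAut P) x) ∧
      ∃ (r : ℕ) (y : P), a * r = d ∧
        ψ t = t ^ r * Subgroup.inclusion (le_normalizerIn hPS) y := by
  haveI := finite_sub hPS
  obtain ⟨-, ⟨-, R, hR⟩, hrec⟩ := fullyNormalized_props hS hF hfn
  have hle : (conjN F hPS).range ≤ lowerUni ρ hinv hf := by
    rintro _ ⟨g, rfl⟩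
    exact unitriangular_conjN ρ hS hPS hinv hf hp5 ht g
  have heq : lowerUni ρ hinv hf = (conjN F hPS).range := by
    rw [conjN_range, ← hR]
    exact R.is_maximal' (isPGroup_lowerUni ρ hinv hf hker) (by rw [hR, ← conjN_range hPS]; exact hle)
  obtain ⟨a', b', c', d', hγi⟩ := exists_has hf (ρ γ⁻¹) (hinv _)
  obtain ⟨e1, e2, e3, e4⟩ := InR.mul_inv hf hγ hγi
  have ha : a ≠ 0 := fun h => by simp [h] at e1
  have hb' : b' = 0 := by simpa [ha] using e2
  subst hb'
  simp only [zero_mul, add_zero, mul_zero, zero_add] at e1 e4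
  have hd : d ≠ 0 := fun h => by simp [h] at e4
  -- the conjugate of a lower unitriangular element
  have hconj : ∀ {g : F.autGroup P} {k : ZMod p}, Has f (ρ g) 1 0 k 1 →
      Has f (ρ (γ * g * γ⁻¹)) 1 0 (k * d * a') 1 := by
    intro g k hg
    rw [map_mul, map_mul]
    exact ((hγ.mul hg).mul hγi).congr (by linear_combination e1) (by ring)
      (by linear_combination e3) (by linear_combination e4)
  -- the map of the system and its extension
  obtain ⟨φ, hφ, hφr, hφe⟩ := exists_hom_of_aut hPS γ.2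
  obtain ⟨ψ₀, hψ₀, hψ₀e⟩ := hrec.2 P φ hφ hφr
  have hN : normalizerIn S P ≤ extender S P φ := by
    intro g hg
    obtain ⟨k, hk⟩ := unitriangular_conjN ρ hS hPS hinv hf hp5 ht ⟨g, hg⟩
    obtain ⟨h, hh⟩ : γ * conjN F hPS ⟨g, hg⟩ * γ⁻¹ ∈ (conjN F hPS).range := heq ▸ ⟨_, hconj hk⟩
    refine mem_extender_of hg h.2.1 fun x hx => ?_
    have hh' : conjN F hPS h * γ = γ * conjN F hPS ⟨g, hg⟩ := by rw [hh, inv_mul_cancel_right]
    have := congrArg (fun w : F.autGroup P => (((w : MulAut P) x : P) : Ω)) hh'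
    simp only [Subgroup.coe_mul, MulAut.mul_apply, conjN_apply] at this
    rw [hφe, hφe, this]
    congr 2
  obtain ⟨ψ₁, hψ₁, hψ₁e⟩ := exists_restrict hψ₀ hN
  have hval : ∀ x : P, ψ₁ (Subgroup.inclusion (le_normalizerIn hPS) x) = (γ : MulAut P) x := fun x => by
    rw [hψ₁e, ← hφe]
    exact hψ₀e x x.2 (hN (le_normalizerIn hPS x.2))
  have hmap : (P.subgroupOf (normalizerIn S P)).map ψ₁ = P := by
    ext y
    constructor
    · rintro ⟨x, hx, rfl⟩
      rw [show x = Subgroup.inclusion (le_normalizerIn hPS) ⟨x, Subgroup.mem_subgroupOf.1 hx⟩ from rfl,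
        hval]
      exact SetLike.coe_mem _
    · intro hy
      refine ⟨Subgroup.inclusion (le_normalizerIn hPS) ((γ : MulAut P).symm ⟨y, hy⟩),
        SetLike.coe_mem ((γ : MulAut P).symm ⟨y, hy⟩), ?_⟩
      rw [hval, MulEquiv.apply_symm_apply]
  let ψ : normalizerIn S P →* normalizerIn S P :=
    ψ₁.codRestrict _ fun g => apply_mem_normalizerIn hψ₁ (le_normalizerIn hPS) hmap g g.2.2
  refine ⟨ψ, hom_congr hψ₁ fun _ => rfl, hval, (d * a').val, ?_⟩
  obtain ⟨k', hk'', hk'⟩ := ht.pow_lower (d * a').val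
  have htr : Has f (ρ (conjN F hPS (t ^ (d * a').val))) 1 0 (d * a') 1 := by
    rw [map_pow, map_pow]
    exact hk''.congr (one_pow _) rfl (by rw [hk' rfl rfl, ZMod.natCast_zmod_val, mul_one]) (one_pow _)
  have hψt : conjN F hPS (ψ t) = γ * conjN F hPS t * γ⁻¹ := by
    rw [eq_mul_inv_iff_mul_eq]
    refine Subtype.ext (MulEquiv.ext fun x => Subtype.ext ?_)
    simp only [Subgroup.coe_mul, MulAut.mul_apply, conjN_apply]
    rw [← hval, ← hval]
    show ψ₁ t * _ * (ψ₁ t)⁻¹ = _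
    rw [← map_inv, ← map_mul, ← map_mul]
    congr 1
  have hs : Has f (ρ (conjN F hPS (ψ t))) 1 0 (d * a') 1 := by
    rw [hψt]; exact (hconj ht).congr rfl rfl (by ring) rfl
  have hmem : ((t ^ (d * a').val)⁻¹ * ψ t : normalizerIn S P).val ∈ P := by
    refine hfix _ ?_
    obtain ⟨k, hk⟩ := unitriangular_conjN ρ hS hPS hinv hf hp5 ht ((t ^ (d * a').val)⁻¹ * ψ t)
    have h2 := htr.mul hk
    rw [← map_mul, ← map_mul, mul_inv_cancel_left] at h2
    obtain ⟨-, -, h3, -⟩ := hs.unique hf h2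
    exact hk.congr rfl rfl (by linear_combination -h3) rfl
  refine ⟨⟨_, hmem⟩, ?_, Subtype.ext ?_⟩
  · rw [ZMod.natCast_zmod_val]; linear_combination d * e1
  · show (ψ t : Ω) = (t : Ω) ^ _ * (((t ^ (d * a').val)⁻¹ * ψ t : normalizerIn S P) : Ω)
    push_cast
    group

/-- An essential `P` has a diagonal element `(2, 1/2)` in its automiser. -/
theorem exists_diag_of_essential (hess : F.IsEssential p P) {t : normalizerIn S P}
    (ht : Has f (ρ (conjN F hPS t)) 1 0 1 1) (htP : (t : Ω) ∉ P) :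
    ∃ δ, Has f (ρ δ) 2 0 0 2⁻¹ := by
  haveI := finite_sub hPS
  by_contra hno
  have hall : ∀ γ a b c d, Has f (ρ γ) a b c d → b = 0 := fun γ a b c d hγ => by
    by_contra hb
    exact hno (exists_diag ρ hinv hf ht hγ hb (two_ne_zero_of hp5))
  exact htP (mem_of_normal_pGroup hS hF hess _ (lowerUni_normal ρ hinv hf hall)
    (isPGroup_lowerUni ρ hinv hf hker) ⟨1, ht⟩)

end Cfsg.Agent.Lib.Resistant67
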