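import Cfsg.Agent.Lib.Resistant67.CaseCube
import Cfsg.Agent.Lib.PGroupTheory.RankTwoLarge

/-!
# `p`-groups of rank two, `p ≥ 5`, are resistant

The elementary abelian essential subgroups and the assembly.
-/

set_option autoImplicit false
set_option linter.style.haveILetI false
set_option linter.unusedSectionVars false

namespace Cfsg.Agent.Lib.Resistant67

open Cfsg Cfsg.FusionSystem Cfsg.Agent.Lib Cfsg.Agent.Lib.FS Cfsg.Agent.Lib.PGroupTheory Plane
open scoped commutatorElement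

universe u

variable {Ω : Type u} [Group Ω] {S : Subgroup Ω} [Finite S] {p : ℕ} [Fact p.Prime] {F : FusionSystem S}
  {E P : Subgroup Ω}

/-- An elementary abelian essential subgroup of order `p²` forces `S` to have order `p³` and exponent `p`. -/
theorem false_of_elementary (hS : IsPGroup p S) (hF : F.IsSaturated p) (hp5 : 5 ≤ p)
    (hreg : ∀ Q : Subgroup Ω, Q ≤ S → IsRegularPGroup p Q) (hE : ∀ x, x ∈ E ↔ x ∈ S ∧ x ^ p = 1)
    (hEc : Nat.card E ≤ p ^ 3) (hEn : Nat.card E = p ^ 3 → ∃ a ∈ E, ∃ b ∈ E, a * b ≠ b * a)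
    (hnotE : ¬ (Nat.card S = p ^ 3 ∧ Monoid.exponent ↥S = p))
    (hess : F.IsEssential p P) (hexp : ∀ x : P, x ^ p = 1) (hP : Nat.card P = p ^ 2) : False := by
  have hPS : P ≤ S := hess.2.1.1
  haveI := finite_sub hPS
  have hPp := isPGroup_of_le hS hPS
  have hp1 := (Fact.out : p.Prime).one_lt
  have hC := hess.1.2 P (isConj_refl F hPS)
  have hcomm : ∀ a b : P, a * b = b * a := (IsPGroup.isMulCommutative_of_card_eq_prime_sq hP).is_comm.comm
  have hfixP : ∀ g : normalizerIn S P, (∀ x : P, (conjN F hPS g : MulAut P) x = x) → (g : Ω) ∈ P := fun g hg =>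
    hC (mem_centralizerIn'.2 ⟨g.2.1, fun y hy => congrArg Subtype.val (hg ⟨y, hy⟩)⟩)
  obtain ⟨t, htP⟩ := exists_normalizer_not_mem hS hF hess
  obtain ⟨x₀, hx₀⟩ : ∃ x : P, x⁻¹ * (conjN F hPS t : MulAut P) x ∉ (⊥ : Subgroup P) := by
    by_contra hall
    push Not at hall
    exact htP (hfixP t fun x => (inv_mul_eq_one.1 (Subgroup.mem_bot.1 (hall x))).symm)
  obtain ⟨f, hf, hfK, ht⟩ := Plane.exists_coords (⊥ : Subgroup P) (by rw [Subgroup.index_bot, hP])
    (fun x => Subgroup.mem_bot.2 (hexp x)) (conjN F hPS t : MulAut P)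
    (fun x hx => by rw [Subgroup.mem_bot] at hx ⊢; rw [hx, map_one]) (conjN_pow_eq_one hS hPS t) hx₀
  have hfinj : ∀ x y : P, f x = f y → x = y := fun x y e => by
    rw [← inv_mul_eq_one, ← Subgroup.mem_bot, ← hfK, hf.add, hf.inv, e, neg_add_cancel]
  set ρ := (F.autGroup P).subtype with hρ
  replace ht : Has f (ρ (conjN F hPS t)) 1 0 1 1 := ht
  have hinv : ∀ γ x, f x = 0 → f (ρ γ x) = 0 := fun γ x hx => by
    rw [hfK, Subgroup.mem_bot] at hx
    rw [hx, map_one, hf.one]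
  have hfix : ∀ g : normalizerIn S P, Has f (ρ (conjN F hPS g)) 1 0 0 1 → (g : Ω) ∈ P := fun g hg =>
    hfixP g fun x => hfinj _ _ (by simpa [ρ] using hg x)
  have hker : ∀ γ : F.autGroup P, (orderOf γ).Coprime p → Has f (ρ γ) 1 0 0 1 → γ = 1 := fun γ _ hγ =>
    Subtype.ext (MulEquiv.ext fun x => hfinj _ _ (by simpa [ρ] using hγ x))
  obtain ⟨δ, hδ⟩ := exists_diag_of_essential ρ hS hPS hinv hf hp5 hF hker hess ht htP
  obtain ⟨ψ, hψ, hψP, r, y, hr, hψt⟩ := exists_extension ρ hS hPS hinv hf hp5 hF hker hess.2.1 ht hfix hδ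
  set ι : P →* normalizerIn S P := Subgroup.inclusion (le_normalizerIn hPS) with hι
  haveI := finite_sub (normalizerIn_le P : normalizerIn S P ≤ S)
  have hNp := isPGroup_of_le hS (normalizerIn_le P : normalizerIn S P ≤ S)
  have hRN := (isRegularPGroup_iff.1 (hreg (normalizerIn S P) (normalizerIn_le P))).2 1
  -- `t ^ p = 1`
  have htp : t ^ p = 1 := by
    have hxP : ((t ^ p : normalizerIn S P) : Ω) ∈ P := by
      refine hfix _ ?_
      obtain ⟨c, hc, hc'⟩ := ht.pow_lower p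
      rw [map_pow, map_pow]
      exact hc.congr (one_pow _) rfl (by rw [hc' rfl rfl, ZMod.natCast_self, zero_mul]) (one_pow _)
    set x : P := ⟨_, hxP⟩
    have hxι : ι x = t ^ p := Subtype.ext rfl
    have hfx : (f x).1 = 0 := by
      have hfx' : (conjN F hPS t : MulAut P) x = x := Subtype.ext (by
        show (t : Ω) * ((t ^ p : normalizerIn S P) : Ω) * (t : Ω)⁻¹ = ((t ^ p : normalizerIn S P) : Ω)
        rw [Subgroup.coe_pow, ← pow_succ', pow_succ, mul_inv_cancel_right])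
      have := congrArg Prod.snd (ht x)
      rw [show ρ (conjN F hPS t) x = x from hfx'] at this
      simpa using this
    have hcm : Commute ((t ^ r) ^ p) (ι y) := by
      rw [← pow_mul, mul_comm r, pow_mul, ← hxι, ← map_pow]
      show _ * _ = _ * _
      rw [← map_mul, hcomm, map_mul]
    have hψx : (δ : MulAut P) x = x ^ r := by
      refine Subtype.ext ?_
      rw [← hψP x, hxι, map_pow, hψt, mul_pow_of_commute hNp hRN hcm, ← pow_mul, mul_comm r, pow_mul,
        ← hxι, ← map_pow, ← map_pow, hexp y, map_one, mul_one]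
      rfl
    have h1 := congrArg Prod.snd (hδ x)
    rw [show ρ δ x = x ^ r from hψx, hf.pow] at h1
    simp [hfx] at h1
    have h2 : (f x).2 = 0 := by
      rcases h1 with h1 | h1
      · exfalso
        rw [h1] at hr
        have h2 := two_ne_zero_of (p := p) hp5
        rw [mul_inv_cancel₀ h2] at hr
        have h3 : (2 : ZMod p) = 1 := by
          have := mul_inv_cancel₀ h2
          rw [← hr, mul_one] at this
          exact this
        exact one_ne_zero (α := ZMod p) (by linear_combination h3)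
      · exact h1
    have hx1 : x = 1 := hfinj _ _ (by rw [hf.one]; exact Prod.ext hfx h2)
    rw [← hxι, hx1, map_one]
  -- so the normaliser is `E`
  have hN : normalizerIn S P ≤ E := fun g hg => by
    refine (hE g).2 ⟨hg.1, ?_⟩
    obtain ⟨k, hk⟩ := unitriangular_conjN ρ hS hPS hinv hf hp5 ht ⟨g, hg⟩
    obtain ⟨c', hc', hcc⟩ := ht.pow_lower (-k).val
    rw [← map_pow, ← map_pow] at hc'
    have h1 := hc'.mul hk
    rw [← map_mul, ← map_mul] at h1
    have hy' := hfix _ (h1.congr (by simp) (by simp)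
      (by rw [hcc rfl rfl, ZMod.natCast_zmod_val]; simp) (by simp))
    set j := (-k).val
    set y' : P := ⟨_, hy'⟩
    have e : (⟨g, hg⟩ : normalizerIn S P) = (t ^ j)⁻¹ * ι y' :=
      eq_inv_mul_iff_mul_eq.2 (Subtype.ext rfl)
    have hz : ((t ^ j)⁻¹) ^ p = 1 := by rw [inv_pow, ← pow_mul, mul_comm, pow_mul, htp, one_pow, inv_one]
    have := mul_pow_of_commute hNp hRN (a := (t ^ j)⁻¹) (b := ι y') (by rw [hz]; exact Commute.one_left _)
    rw [← e, hz, one_mul, ← map_pow, hexp, map_one] at this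
    exact congrArg Subtype.val this
  have hES : E ≤ S := fun _ hx => ((hE _).1 hx).1
  haveI := finite_sub hES
  have hNc : p ^ 3 ≤ Nat.card (normalizerIn S P) := by
    have hlt : P.subgroupOf (normalizerIn S P) < ⊤ := lt_top_iff_ne_top.2 fun h =>
      htP (Subgroup.subgroupOf_eq_top.1 h t.2)
    have h1 := prime_mul_index_le hNp hlt
    rw [Subgroup.index_top, mul_one] at h1
    rw [← (P.subgroupOf (normalizerIn S P)).card_mul_index,
      Nat.card_congr (Subgroup.subgroupOfEquivOfLe (le_normalizerIn hPS)).toEquiv, hP]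
    exact (pow_succ p 2).le.trans (Nat.mul_le_mul_left _ h1)
  have hNE : normalizerIn S P = E := Subgroup.eq_of_le_of_card_ge hN (hEc.trans hNc)
  have hEcard : Nat.card E = p ^ 3 := le_antisymm hEc (hNE ▸ hNc)
  have h : OmegaCube p S E := ⟨hS, hreg, hE, hEcard, hEn hEcard⟩
  -- an element outside `E`
  obtain ⟨s, hs, hsE⟩ : ∃ s ∈ S, s ∉ E := by
    by_contra hall
    push Not at hall
    have hSE : S = E := le_antisymm hall hES
    refine hnotE ⟨hSE ▸ hEcard, ?_⟩
    have hdvd : Monoid.exponent ↥S ∣ p := Monoid.exponent_dvd_of_forall_pow_eq_one fun x =>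
      Subtype.ext ((hE x).1 (hall x x.2)).2
    rcases (Nat.dvd_prime Fact.out).1 hdvd with h1 | h1
    · exfalso
      haveI := Monoid.exp_eq_one_iff.1 h1
      have : Nat.card S = 1 := Nat.card_unique
      rw [hSE, hEcard] at this
      exact absurd this (Nat.one_lt_pow (by omega) hp1).ne'
    · exact h1
  have hPE : P ≤ E := hNE ▸ le_normalizerIn hPS
  have hCE : centralizerIn S E ≤ P := fun g hg => hC (centralizerIn_anti hPE hg)
  have hsN : s ∈ normalizerIn S E := ⟨hs, mem_normalizer_of_conj_mem fun x hx =>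
    (hE _).2 ⟨S.mul_mem (S.mul_mem hs (hES hx)) (S.inv_mem hs), by
      rw [conj_pow, ((hE x).1 hx).2, mul_one, mul_inv_cancel]⟩⟩
  have hsEC : ¬ OmegaCube.InEC S E s := fun ⟨e, he, hc⟩ => hsE (by
    simpa using E.mul_mem he (hPE (hCE hc)))
  obtain ⟨fE, hfE, hfEK, hsT⟩ := h.exists_coords_of_not_inEC (F := F) hES le_rfl (t := ⟨s, hsN⟩) hsEC
  have hEfn : F.IsFullyNormalized E := by
    refine ⟨hES, fun Q _ => ?_⟩
    have : normalizerIn S E = S := le_antisymm (normalizerIn_le E) fun g hg =>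
      ⟨hg, mem_normalizer_of_conj_mem fun x hx =>
        (hE _).2 ⟨S.mul_mem (S.mul_mem hg (hES hx)) (S.inv_mem hg), by
          rw [conj_pow, ((hE x).1 hx).2, mul_one, mul_inv_cancel]⟩⟩
    rw [this]
    exact Subgroup.card_le_of_le (normalizerIn_le Q)
  have hEC : ∀ y ∈ E, OmegaCube.InEC S E y := fun y hy => ⟨y, hy, by simp⟩
  have hsq := fun {γ : F.autGroup E} {a c d : ZMod p} (hγ : Has fE (h.rho F hES le_rfl γ) a 0 c d) =>
    h.sq_eq_one hES le_rfl hfE hfEK hp5 hF hEfn (fun g hg => hPE (hCE hg)) hEC hsT hγ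
  -- the extension gives an automorphism of `E`
  obtain ⟨χ, hχ, hχe⟩ := exists_restrict hψ hNE.ge
  have hχr : χ.range = E := range_eq_of_mem hχ (fun x => by rw [hχe]; exact hN (ψ _).2) le_rfl
  set γE : F.autGroup E := ⟨homEquiv hχ hχr, homEquiv_mem_autGroup hχ hχr⟩
  obtain ⟨a, b, c, d, hγE⟩ := exists_has hfE (h.rho F hES le_rfl γE) (h.rho_inv hES le_rfl hfE hfEK _)
  by_cases hb : b = 0
  swap
  · obtain ⟨δ', hδ'⟩ := exists_diag (h.rho F hES le_rfl) (h.rho_inv hES le_rfl hfE hfEK) hfE hsT hγE hb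
      (two_ne_zero_of hp5)
    exact sq_two_ne_one hp5 (hsq hδ')
  subst hb
  obtain ⟨v, hv⟩ := hf.surj (1, 0)
  obtain ⟨w, hw⟩ := hf.surj (0, 1)
  let jE : P → E.subgroupOf E := fun x => ⟨⟨x, hPE x.2⟩, Subgroup.mem_subgroupOf.2 (hPE x.2)⟩
  -- `δ v = v ^ 2`
  have hδv : ρ δ v = v * v := hfinj _ _ (by
    rw [hδ v, hf.add, hv]; ext <;> norm_num)
  have hγv : h.rho F hES le_rfl γE (jE v) = jE v * jE v := by
    refine Subtype.ext (Subtype.ext ?_)
    show χ ⟨v, hPE v.2⟩ = (v : Ω) * v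
    rw [hχe]
    exact (hψP v).trans (congrArg Subtype.val hδv)
  have hα : (fE (jE v)).1 = 0 := by
    have h1 := congrArg Prod.fst (hγE (jE v))
    rw [hγv, hfE.add] at h1
    by_contra hne
    refine sq_two_ne_one hp5 ?_
    have ha : a = 2 := by
      refine mul_right_cancel₀ hne ?_
      simp only [Prod.fst_add, zero_mul, add_zero] at h1
      linear_combination -h1
    rw [← ha]; exact hsq hγE
  -- `s` fixes `v` modulo the centre of `E`, hence normalises `P`
  have hsv := hsT (jE v)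
  rw [hα] at hsv
  simp only [one_mul, zero_mul, add_zero, zero_add] at hsv
  have hcube := h.card_subgroupOf hES le_rfl
  have hζ : (jE v)⁻¹ * h.rho F hES le_rfl (conjN F hES ⟨s, hsN⟩) (jE v) ∈ Subgroup.center _ := by
    rw [← hfEK, hfE.add, hfE.inv, hsv]
    ext <;> simp [hα]
  have hwc : ∀ g ∈ E, g * (w : Ω) = w * g := by
    intro g hg
    rw [← hNE] at hg
    obtain ⟨k, hk⟩ := unitriangular_conjN ρ hS hPS hinv hf hp5 ht ⟨g, hg⟩
    have : (conjN F hPS ⟨g, hg⟩ : MulAut P) w = w := hfinj _ _ (by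
      rw [show (conjN F hPS ⟨g, hg⟩ : MulAut P) w = ρ (conjN F hPS ⟨g, hg⟩) w from rfl, hk w, hw]
      ext <;> simp)
    exact mul_inv_eq_iff_eq_mul.1 (congrArg Subtype.val this)
  refine hsE (hN ⟨hs, mem_normalizer_of_conj_mem fun z hz => ?_⟩)
  have hsz : s * z * s⁻¹ ∈ E :=
    (hE _).2 ⟨S.mul_mem (S.mul_mem hs (hPS hz)) (S.inv_mem hs), by
      rw [conj_pow, ((hE z).1 (hPE hz)).2, mul_one, mul_inv_cancel]⟩
  refine hC (mem_centralizerIn'.2 ⟨hES hsz, ?_⟩)
  -- it commutes with `v` and with `w`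
  have hcv : Commute (s * z * s⁻¹) (v : Ω) := by
    have h1 : Commute (s * z * s⁻¹) (s * (v : Ω) * s⁻¹) := by
      have hzv : Commute z (v : Ω) := congrArg Subtype.val (hcomm ⟨z, hz⟩ v)
      exact (Commute.conj_iff s).2 hzv
    have h2 : Commute (s * z * s⁻¹) ((v : Ω)⁻¹ * (s * (v : Ω) * s⁻¹)) :=
      congrArg (fun q : E.subgroupOf E => ((q : E) : Ω))
        (Subgroup.mem_center_iff.1 hζ ⟨⟨_, hsz⟩, Subgroup.mem_subgroupOf.2 hsz⟩)
    have h3 := (h1.mul_right h2.inv_right)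
    rwa [show s * (v : Ω) * s⁻¹ * ((v : Ω)⁻¹ * (s * (v : Ω) * s⁻¹))⁻¹ = (v : Ω) by group] at h3
  intro q hq
  have hdec : (⟨q, hq⟩ : P) = v ^ (f ⟨q, hq⟩).1.val * w ^ (f ⟨q, hq⟩).2.val := hfinj _ _ (by
    rw [hf.add, hf.pow, hf.pow, hv, hw]; simp)
  have hqc : Commute (s * z * s⁻¹) q := by
    rw [show q = (v : Ω) ^ (f ⟨q, hq⟩).1.val * (w : Ω) ^ (f ⟨q, hq⟩).2.val by
      simpa using congrArg Subtype.val hdec]
    exact (hcv.pow_right _).mul_right ((show Commute (s * z * s⁻¹) (w : Ω) from hwc _ hsz).pow_right _)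
  rw [hqc.eq, mul_inv_cancel_right]

theorem isNormal (hp5 : 5 ≤ p) (hS : IsPGroup p S) (hF : F.IsSaturated p)
    (hrank3 : ∀ A : Subgroup Ω, A ≤ S → IsElementaryAbelian p A → Nat.card A ≤ p ^ 2)
    (hnotE : ¬ (Nat.card S = p ^ 3 ∧ Monoid.exponent ↥S = p)) : F.IsNormal S := by
  have hp1 := (Fact.out : p.Prime).one_lt
  have hrk : ∀ Q : Subgroup Ω, Q ≤ S → PRankLE p 2 Q := fun Q hQ A hA hAp => by
    rw [Nat.card_congr (A.equivMapOfInjective Q.subtype Q.subtype_injective).toEquiv]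
    exact hrank3 _ (le_trans (Subgroup.map_subtype_le A) hQ) (PGroups.elemAb_map Q.subtype ⟨hA, hAp⟩)
  have hreg : ∀ Q : Subgroup Ω, Q ≤ S → IsRegularPGroup p Q := fun Q hQ => by
    haveI := finite_sub hQ
    exact RankTwo.isRegularPGroup_of_prankLE hp5 Q (isPGroup_of_le hS hQ) (hrk Q hQ)
  obtain ⟨O, -, hO⟩ := exists_subgroup_of_regularAt hS ((isRegularPGroup_iff.1 (hreg S le_rfl)).2 1)
  set E := O.map S.subtype with hEdef
  have hE : ∀ x, x ∈ E ↔ x ∈ S ∧ x ^ p = 1 := fun x => by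
    constructor
    · rintro ⟨y, hy, rfl⟩
      exact ⟨y.2, congrArg Subtype.val ((hO y).1 hy)⟩
    · rintro ⟨hx, hxp⟩
      exact ⟨⟨x, hx⟩, (hO _).2 (Subtype.ext hxp), rfl⟩
  have hES : E ≤ S := Subgroup.map_subtype_le O
  haveI := finite_sub hES
  have hEexp : ∀ x : E, x ^ p = 1 := fun x => Subtype.ext ((hE x).1 x.2).2
  have hEc : Nat.card E ≤ p ^ 3 :=
    RankTwo.card_le_of_exponent (isPGroup_of_le hS hES) (by omega) (hrk E hES) hEexp
  have hEn : Nat.card E = p ^ 3 → ∃ a ∈ E, ∃ b ∈ E, a * b ≠ b * a := by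
    intro hc
    by_contra hall
    push Not at hall
    have := hrank3 E hES ⟨⟨⟨fun a b => Subtype.ext (hall a a.2 b b.2)⟩⟩, fun a ha => ((hE a).1 ha).2⟩
    rw [hc] at this
    exact absurd this (not_le.2 (Nat.pow_lt_pow_right hp1 (by omega)))
  refine FusionEssential.PClosed.isNormal_base hS hF fun P hess => ?_
  have hPS : P ≤ S := hess.2.1.1
  haveI := finite_sub hPS
  have hPp := isPGroup_of_le hS hPS
  by_cases hsmall : Nat.card {x : P // x ^ p = 1} ≤ p ^ 2
  · have hexp := pow_eq_one_of_small hS hF hp5 hreg hess hsmall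
    have hcard : Nat.card {x : P // x ^ p = 1} = Nat.card P :=
      Nat.card_congr (Equiv.subtypeUnivEquiv hexp)
    rw [hcard] at hsmall
    obtain ⟨k, hk⟩ := IsPGroup.iff_card.1 hPp
    rw [hk] at hsmall
    have hk2 := (Nat.pow_le_pow_iff_right hp1).1 hsmall
    rcases eq_or_lt_of_le hk2 with rfl | hk1
    · exact false_of_elementary hS hF hp5 hreg hE hEc hEn hnotE hess hexp hk
    · have hidx : (frattini P).index ≤ p * (⊤ : Subgroup P).index := by
        rw [Subgroup.index_top, mul_one]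
        refine (Nat.le_of_dvd Nat.card_pos (Subgroup.index_dvd_card _)).trans ?_
        rw [hk]
        exact (Nat.pow_le_pow_right (by omega) (Nat.le_of_lt_succ hk1)).trans (pow_one p).le
      obtain ⟨v, -, hv⟩ := exists_zpowers_sup hPp (le_top : frattini P ≤ ⊤) hidx
      exact false_of_step hS hF hess (frattini P) le_rfl (fun γ _ x hx => aut_mem_frattini γ hx)
        (top_le_iff.1 hv) (one_mem _) le_sup_right
  · -- `P` contains all elements of order `p`
    rw [not_le] at hsmall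
    haveI := finite_sub (inf_le_right.trans hPS : E ⊓ P ≤ S)
    have he : Nat.card {x : P // x ^ p = 1} = Nat.card ↥(E ⊓ P) := by
      refine Nat.card_congr
        { toFun := fun x => ⟨(x.1 : Ω), (hE _).2 ⟨hPS x.1.2, congrArg Subtype.val x.2⟩, x.1.2⟩
          invFun := fun x => ⟨⟨x, x.2.2⟩, Subtype.ext ((hE _).1 x.2.1).2⟩
          left_inv := fun x => rfl
          right_inv := fun x => rfl }
    rw [he] at hsmall
    obtain ⟨k, hk⟩ := IsPGroup.iff_card.1 (isPGroup_of_le hS (inf_le_right.trans hPS : E ⊓ P ≤ S))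
    rw [hk] at hsmall
    have hk3 : 3 ≤ k := (Nat.pow_lt_pow_iff_right hp1).1 hsmall
    have hge : p ^ 3 ≤ Nat.card ↥(E ⊓ P) := hk ▸ Nat.pow_le_pow_right (by omega) hk3
    have heq : E ⊓ P = E := Subgroup.eq_of_le_of_card_ge inf_le_left (hEc.trans hge)
    have hEcard : Nat.card E = p ^ 3 := le_antisymm hEc (hge.trans (Subgroup.card_le_of_le inf_le_left))
    exact OmegaCube.false_of_le ⟨hS, hreg, hE, hEcard, hEn hEcard⟩ hp5 hF hess (heq ▸ inf_le_right)

end Cfsg.Agent.Lib.Resistant67
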